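import Groth.Agent.VBPnX.InjSlim.NoethObj
import Groth.Agent.QCoh.Devissage
import Mathlib.CategoryTheory.Abelian.GrothendieckCategory.Subobject
import Mathlib.Algebra.Category.ModuleCat.Colimits

/-!
# Sums of injective modules on a locally Noetherian scheme
-/

set_option linter.style.haveILetI false
set_option backward.isDefEq.respectTransparency false
set_option backward.isDefEq.respectTransparency.types false

universe v u

open CategoryTheory CategoryTheory.Limits AlgebraicGeometry TopologicalSpace Opposite Groth.Agent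
open Groth.Agent.KFlatLib

namespace Groth.Agent.VBPnX.InjSlim

section Abstract

variable {C : Type*} [Category.{v} C] [Abelian C] [IsGrothendieckAbelian.{v} C]

/-- A partial map from a subobject of `B` to `I`. -/
def Part (B I : C) : Type _ := Σ S : Subobject B, (S : C) ⟶ I

/-- The order by extension. -/
def Part.Le {B I : C} (p q : Part B I) : Prop :=
  ∃ h : p.1 ≤ q.1, Subobject.ofLE p.1 q.1 h ≫ q.2 = p.2

instance (B I : C) : Preorder (Part B I) where
  le := Part.Le
  le_refl p := ⟨le_rfl, by simp⟩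
  le_trans p q r := fun ⟨h, e⟩ ⟨h', e'⟩ => ⟨h.trans h', by
    rw [← Subobject.ofLE_comp_ofLE _ _ _ h h', Category.assoc, e', e]⟩

lemma exists_upperBound {B I : C} (c : Set (Part B I)) (hc : IsChain (· ≤ ·) c)
    (p : Part B I) (hp : p ∈ c) : ∃ q, ∀ r ∈ c, r ≤ q := by
  let s : Set (Subobject B) := Sigma.fst '' c
  obtain ⟨K, ⟨e⟩⟩ : ∃ K : Type v, Nonempty (K ≃ s) := ⟨_, ⟨(equivShrink s).symm⟩⟩
  let S : K → Subobject B := fun k => (e k).1
  have hS : ∀ k, ∃ g : (S k : C) ⟶ I, (⟨S k, g⟩ : Part B I) ∈ c := by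
    intro k
    obtain ⟨⟨T, g⟩, hr, hT⟩ := (e k).2
    change T = S k at hT
    subst hT
    exact ⟨g, hr⟩
  choose g hg using hS
  have hcmp : ∀ k l, S k ≤ S l → ∀ h : S k ≤ S l, Subobject.ofLE (S k) (S l) h ≫ g l = g k := by
    intro k l _ h
    rcases hc.total (hg k) (hg l) with ⟨_, e'⟩ | ⟨h', e'⟩
    · exact e'
    · dsimp only at h' e'
      rw [← e', ← Category.assoc, Subobject.ofLE_comp_ofLE, Subobject.ofLE_refl, Category.id_comp]
  letI : Preorder K := Preorder.lift S
  haveI : IsDirectedOrder K := ⟨fun k l => by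
    rcases hc.total (hg k) (hg l) with ⟨h, _⟩ | ⟨h, _⟩
    · exact ⟨l, h, le_refl _⟩
    · exact ⟨k, le_refl _, h⟩⟩
  haveI : Nonempty K := ⟨e.symm ⟨p.1, p, hp, rfl⟩⟩
  let F : K ⥤ MonoOver B :=
    { obj := fun k => MonoOver.mk (S k).arrow
      map := fun {k l} f => MonoOver.homMk (Subobject.ofLE (S k) (S l) (show S k ≤ S l from (show k ≤ l from leOfHom f))) (Subobject.ofLE_arrow _)
      map_id := fun _ => Subsingleton.elim _ _
      map_comp := fun _ _ => Subsingleton.elim _ _ }
  haveI hcol : HasColimitsOfShape K C := inferInstance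
  let D : K ⥤ C := F ⋙ MonoOver.forget _ ⋙ Over.forget _
  let f : colimit D ⟶ B := colimit.desc D (Cocone.mk B
    { app := fun k => (S k).arrow
      naturality := fun k l φ => by
        change Subobject.ofLE (S k) (S l) (show S k ≤ S l from (show k ≤ l from leOfHom φ)) ≫ (S l).arrow = (S k).arrow ≫ 𝟙 B
        simp })
  have hf : ∀ k, colimit.ι D k ≫ f = (S k).arrow := fun k => colimit.ι_desc _ _
  haveI : Mono f := IsGrothendieckAbelian.mono_of_isColimit_monoOver F (colimit.isColimit D) f hf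
  let φ : colimit D ⟶ I := colimit.desc D (Cocone.mk I
    { app := fun k => g k
      naturality := fun k l ψ => by
        change Subobject.ofLE (S k) (S l) (show S k ≤ S l from (show k ≤ l from leOfHom ψ)) ≫ g l = g k ≫ 𝟙 I
        rw [Category.comp_id]
        exact hcmp k l (show S k ≤ S l from (show k ≤ l from leOfHom ψ)) _ })
  refine ⟨⟨Subobject.mk f, (Subobject.underlyingIso f).hom ≫ φ⟩, fun r hr => ?_⟩
  obtain ⟨k, hk⟩ : ∃ k, S k = r.1 := ⟨e.symm ⟨r.1, r, hr, rfl⟩, by simp [S]⟩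
  obtain ⟨T, gr⟩ := r
  change S k = T at hk
  subst hk
  have hgk : gr = g k := by
    rcases hc.total hr (hg k) with ⟨_, e'⟩ | ⟨_, e'⟩
    · simpa using e'.symm
    · simpa using e'
  subst hgk
  refine ⟨Subobject.le_mk_of_comm (colimit.ι D k) (hf k), ?_⟩
  have hι : Subobject.ofLE (S k) (Subobject.mk f) (Subobject.le_mk_of_comm (colimit.ι D k) (hf k)) ≫
      (Subobject.underlyingIso f).hom = colimit.ι D k := by
    rw [← cancel_mono f, Category.assoc, Subobject.underlyingIso_hom_comp_eq_mk, Subobject.ofLE_arrow, hf]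
  dsimp only
  rw [← Category.assoc, hι]
  exact colimit.ι_desc _ _

/-- An object to which partial maps extend by one step is injective. -/
theorem injective_of_step (I : C)
    (h : ∀ (B : C) (S : Subobject B) (g : (S : C) ⟶ I), S ≠ ⊤ →
      ∃ (T : Subobject B) (hT : S ≤ T), ¬ T ≤ S ∧ ∃ g' : (T : C) ⟶ I, Subobject.ofLE S T hT ≫ g' = g) :
    Injective I := by
  refine ⟨fun {A B} a i hi => ?_⟩
  haveI := hi
  let p₀ : Part B I := ⟨Subobject.mk i, (Subobject.underlyingIso i).hom ≫ a⟩
  obtain ⟨m, hm, hmax⟩ := zorn_le_nonempty₀ (Set.Ici p₀) (fun c hcs hc y hy => by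
    obtain ⟨q, hq⟩ := exists_upperBound c hc y hy
    exact ⟨q, (Set.mem_Ici.1 (hcs hy)).trans (hq y hy), hq⟩) p₀ Set.self_mem_Ici
  have htop : m.1 = ⊤ := by
    by_contra hne
    obtain ⟨T, hT, hTS, g', hg'⟩ := h B m.1 m.2 hne
    let q : Part B I := ⟨T, g'⟩
    have h1 : m ≤ q := ⟨hT, hg'⟩
    exact hTS (hmax.2 (Set.mem_Ici.2 (le_trans hm h1)) h1).1
  obtain ⟨S, g⟩ := m
  obtain ⟨h0, e0⟩ := hm
  dsimp only [p₀] at h0 e0 htop
  subst htop
  haveI : IsIso (⊤ : Subobject B).arrow := inferInstance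
  refine ⟨inv (⊤ : Subobject B).arrow ≫ g, ?_⟩
  have h2 : Subobject.ofLE (Subobject.mk i) ⊤ h0 =
      (Subobject.mk i).arrow ≫ inv (⊤ : Subobject B).arrow := by
    rw [IsIso.eq_comp_inv, Subobject.ofLE_arrow]
  rw [h2] at e0
  rw [← cancel_epi (Subobject.underlyingIso i).hom, ← e0, ← Category.assoc,
    Subobject.underlyingIso_hom_comp_eq_mk, Category.assoc]

end Abstract


section Abstract

variable {C : Type*} [Category C] [Abelian C]

/-- Enlarging a subobject by the image of a map. -/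
lemma exists_step {B I G : C} (S : Subobject B) (g : (S : C) ⟶ I) (h : G ⟶ B) (e : G ⟶ I)
    (he : pullback.fst S.arrow h ≫ g = pullback.snd S.arrow h ≫ e) (hh : ¬ ∃ l, l ≫ S.arrow = h) :
    ∃ (T : Subobject B) (hT : S ≤ T), ¬ T ≤ S ∧ ∃ g' : (T : C) ⟶ I, Subobject.ofLE S T hT ≫ g' = g := by
  let φ : (S : C) ⊞ G ⟶ B := biprod.desc S.arrow h
  let ψ : (S : C) ⊞ G ⟶ I := biprod.desc g e
  let p := Abelian.factorThruImage φ
  have hp : p ≫ Abelian.image.ι φ = φ := Abelian.image.fac φ
  have hker : kernel.ι p ≫ ψ = 0 := by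
    obtain ⟨a, b, hk⟩ : ∃ (a : kernel p ⟶ (S : C)) (b : kernel p ⟶ G),
        kernel.ι p = a ≫ biprod.inl + b ≫ biprod.inr := by
      refine ⟨kernel.ι p ≫ biprod.fst, kernel.ι p ≫ biprod.snd, ?_⟩
      simp only [Category.assoc, ← Preadditive.comp_add, biprod.total, Category.comp_id]
    have hab : a ≫ S.arrow + b ≫ h = 0 := by
      have h0 : kernel.ι p ≫ φ = 0 :=
        (congrArg (fun z => kernel.ι p ≫ z) hp).symm.trans (by rw [kernel.condition_assoc, zero_comp])
      rw [hk, Preadditive.add_comp, Category.assoc, Category.assoc, biprod.inl_desc, biprod.inr_desc] at h0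
      exact h0
    let l := pullback.lift (f := S.arrow) (g := h) (-a) b
      (by rw [Preadditive.neg_comp]; exact neg_eq_of_add_eq_zero_right hab)
    have h1 := congrArg (fun z => l ≫ z) he
    simp only [l, pullback.lift_fst_assoc, pullback.lift_snd_assoc, Preadditive.neg_comp] at h1
    rw [hk, Preadditive.add_comp, Category.assoc, Category.assoc, biprod.inl_desc, biprod.inr_desc, ← h1,
      add_neg_cancel]
  have hle : S ≤ Subobject.mk (Abelian.image.ι φ) := Subobject.le_mk_of_comm (biprod.inl ≫ p) (by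
    rw [Category.assoc, hp, biprod.inl_desc])
  refine ⟨Subobject.mk (Abelian.image.ι φ), hle, fun hTS => hh ?_,
    (Subobject.underlyingIso _).hom ≫ Abelian.epiDesc p ψ hker, ?_⟩
  · refine ⟨biprod.inr ≫ p ≫ (Subobject.underlyingIso _).inv ≫ Subobject.ofLE _ S hTS, ?_⟩
    simp only [Category.assoc, Subobject.ofLE_arrow, Subobject.underlyingIso_arrow, hp]
    exact biprod.inr_desc _ _
  · have h5 : Subobject.ofLE S (Subobject.mk (Abelian.image.ι φ)) hle ≫ (Subobject.underlyingIso _).hom =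
        biprod.inl ≫ p := by
      rw [← cancel_mono (Abelian.image.ι φ), Category.assoc, Category.assoc,
        Subobject.underlyingIso_hom_comp_eq_mk, hp, biprod.inl_desc]
      exact Subobject.ofLE_arrow _
    rw [← Category.assoc, h5, Category.assoc, Abelian.comp_epiDesc, biprod.inl_desc]

end Abstract

variable {X : Scheme.{u}}

/-- Extensions by zero of structure sheaves of affine opens detect zero maps. -/
lemma exists_affine_gen_ne_zero {B Q : X.Modules} (q : B ⟶ Q) (hq : q ≠ 0) :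
    ∃ (V : X.Opens) (_ : IsAffineOpen V) (h : (lsh V.ι).obj (Coh.structureModule (V : Scheme.{u})) ⟶ B),
      h ≫ q ≠ 0 := by
  by_contra hcon
  simp only [not_exists, not_not] at hcon
  apply hq
  refine Scheme.Modules.hom_ext _ _ fun W => ?_
  ext s
  refine QCoh.eq_zero_of_locally W _ fun p hp => ?_
  obtain ⟨_, ⟨V₀, hV₀, rfl⟩, hpV₀, hVW₀⟩ := X.isBasis_affineOpens.exists_subset_of_mem_open hp W.isOpen
  obtain ⟨V, hV, hpV, hVW⟩ : ∃ V : X.Opens, IsAffineOpen V ∧ p ∈ V ∧ V ≤ W := ⟨V₀, hV₀, hpV₀, hVW₀⟩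
  refine ⟨V, homOfLE hVW, hpV, ?_⟩
  rw [← QCoh.map_app_comm]
  generalize B.presheaf.map (homOfLE hVW).op s = s'
  have hV' : V.ι ''ᵁ ⊤ = V := by simp
  let t : Γ(B.restrict V.ι, ⊤) := B.presheaf.map (homOfLE hV'.le).op s'
  have h₁ := congrArg ((lshAdj V.ι).homEquiv _ _)
    (hcon V hV (((lshAdj V.ι).homEquiv _ _).symm (QCoh.homOfTop t)))
  erw [(lshAdj V.ι).homEquiv_naturality_right, Equiv.apply_symm_apply] at h₁
  have h₃ : QCoh.homOfTop t ≫ (Scheme.Modules.restrictFunctor V.ι).map q = 0 := by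
    refine h₁.trans ?_
    rw [Adjunction.homEquiv_unit, Functor.map_zero, comp_zero]
  have h₄ := congrArg (fun z => z.app ⊤ (1 : Γ((V : Scheme.{u}), ⊤))) h₃
  simp only at h₄
  change ((Scheme.Modules.restrictFunctor V.ι).map q).app ⊤
    ((QCoh.homOfTop t).app ⊤ (1 : Γ((V : Scheme.{u}), ⊤))) = _ at h₄
  rw [QCoh.homOfTop_app] at h₄
  erw [one_smul] at h₄
  have h₅ : (B.restrict V.ι).presheaf.map (homOfLE le_top : (⊤ : (V : Scheme.{u}).Opens) ⟶ ⊤).op t = t := by
    rw [show (homOfLE le_top : (⊤ : (V : Scheme.{u}).Opens) ⟶ ⊤).op = 𝟙 _ from rfl,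
      CategoryTheory.Functor.map_id]
    rfl
  erw [h₅] at h₄
  change q.app (V.ι ''ᵁ ⊤) (B.presheaf.map (homOfLE hV'.le).op s') = 0 at h₄
  have h₆ := congrArg (Q.presheaf.map (homOfLE hV'.ge).op) h₄
  rw [map_zero, ← QCoh.map_app_comm] at h₆
  erw [QCoh.map_map, QCoh.map_id'] at h₆
  exact h₆

/-- A map from a chain-Noetherian object into a coproduct involves finitely many summands. -/
lemma exists_finset_killing {ι : Type u} [DecidableEq ι] (I : ι → X.Modules) {K : X.Modules} (g : K ⟶ ∐ I)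
    (hK : WellFoundedGT (Subobject K)) :
    ∃ s : Finset ι, g ≫ Sigma.desc (fun i => if i ∈ s then 0 else Sigma.ι I i) = 0 := by
  let π : Finset ι → (∐ I ⟶ ∐ I) := fun s => Sigma.desc (fun i => if i ∈ s then 0 else Sigma.ι I i)
  have hπ : ∀ s t, s ⊆ t → π s ≫ π t = π t := fun s t h => Sigma.hom_ext _ _ fun i => by
    by_cases hi : i ∈ s
    · simp [π, hi, h hi]
    · simp [π, hi]
  obtain ⟨_, ⟨s₀, rfl⟩, hmax⟩ := hK.wf.has_min
    (Set.range fun s => kernelSubobject (g ≫ π s)) (Set.range_nonempty _)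
  refine ⟨s₀, eq_zero_of_stalk _ fun x => ModuleCat.hom_ext (LinearMap.ext fun z => ?_)⟩
  let Φ := DerSch.stalkFunctor X x
  let c := isColimitOfPreserves Φ (colimit.isColimit (Discrete.functor I))
  have hmem : ∃ s : Finset ι, Φ.map (π s) (Φ.map g z) = 0 := by
    generalize Φ.map g z = y
    let P : Submodule (X.presheaf.stalk x) (Φ.obj (∐ I) : Type u) :=
      { carrier := {y | ∃ s : Finset ι, Φ.map (π s) y = 0}
        add_mem' := by
          rintro a b ⟨s, hs⟩ ⟨t, ht⟩
          refine ⟨s ∪ t, ?_⟩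
          have h1 : ∀ r y, r ⊆ s ∪ t → Φ.map (π r) y = 0 → Φ.map (π (s ∪ t)) y = 0 := fun r y hr h0 => by
            rw [← hπ r _ hr, Functor.map_comp]
            change Φ.map (π (s ∪ t)) (Φ.map (π r) y) = 0
            rw [h0, map_zero]
          rw [map_add, h1 s a Finset.subset_union_left hs, h1 t b Finset.subset_union_right ht, add_zero]
        zero_mem' := ⟨∅, map_zero _⟩
        smul_mem' := by
          rintro r a ⟨s, hs⟩
          exact ⟨s, by rw [map_smul, hs, smul_zero]⟩ }
    have hP : ModuleCat.ofHom P.mkQ = (0 : Φ.obj (∐ I) ⟶ _) := c.hom_ext fun ⟨i⟩ => by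
      rw [comp_zero]
      refine ModuleCat.hom_ext (LinearMap.ext fun w => (Submodule.Quotient.mk_eq_zero P).2 ⟨{i}, ?_⟩)
      change Φ.map (π {i}) (Φ.map (Sigma.ι I i) w) = 0
      have h2 : Sigma.ι I i ≫ π {i} = 0 := by simp [π]
      have h3 := ConcreteCategory.congr_hom ((Φ.map_comp (Sigma.ι I i) (π {i})).symm.trans
        (by rw [h2, Functor.map_zero] : Φ.map (Sigma.ι I i ≫ π {i}) = 0)) w
      exact h3
    exact (Submodule.Quotient.mk_eq_zero P).1 (ConcreteCategory.congr_hom hP y)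
  obtain ⟨s, hs⟩ := hmem
  let t := s₀ ∪ s
  have hle : ∀ r, r ⊆ t → kernelSubobject (g ≫ π r) ≤ kernelSubobject (g ≫ π t) := fun r hr =>
    le_kernelSubobject _ _ (by rw [← hπ r t hr, ← Category.assoc g, kernelSubobject_arrow_comp_assoc, zero_comp])
  have heq : kernelSubobject (g ≫ π t) ≤ kernelSubobject (g ≫ π s₀) := by
    by_contra hn
    exact hmax _ ⟨t, rfl⟩ (lt_of_le_not_ge (hle s₀ Finset.subset_union_left) hn)
  have hzt : Φ.map (g ≫ π t) z = 0 := by
    rw [← hπ s t Finset.subset_union_right, Functor.map_comp, Functor.map_comp]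
    change Φ.map (π t) (Φ.map (π s) (Φ.map g z)) = 0
    rw [hs, map_zero]
  let T := ShortComplex.mk (kernel.ι (g ≫ π t)) (g ≫ π t) (kernel.condition _)
  have hex := (exact_iff_stalk T).1 (ShortComplex.exact_of_f_is_kernel _ (kernelIsKernel _)) x
  obtain ⟨w, hw⟩ := (ShortComplex.moduleCat_exact_iff _).1 hex z hzt
  change Φ.map (kernel.ι (g ≫ π t)) w = z at hw
  have h0 : kernel.ι (g ≫ π t) ≫ g ≫ π s₀ = 0 := by
    have h1 : (kernelSubobject (g ≫ π t)).arrow ≫ g ≫ π s₀ = 0 := by
      rw [← Subobject.ofLE_arrow heq, Category.assoc, kernelSubobject_arrow_comp, comp_zero]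
    rw [← kernelSubobject_arrow', Category.assoc, h1, comp_zero]
  change Φ.map (g ≫ π s₀) z = 0
  rw [← hw]
  have h4 := ConcreteCategory.congr_hom (congrArg Φ.map h0) w
  rw [Functor.map_comp, Functor.map_zero] at h4
  exact h4

/-- On a locally Noetherian scheme a coproduct of injective modules is injective. -/
theorem injective_coproduct [IsLocallyNoetherian X] {ι : Type u} (I : ι → X.Modules)
    (hI : ∀ j, Injective (I j)) : Injective (∐ I) := by
  classical
  refine injective_of_step _ fun B S g hne => ?_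
  have hq : cokernel.π S.arrow ≠ 0 := fun h0 => hne (by
    haveI : Epi S.arrow := Preadditive.epi_of_isZero_cokernel _
      ((IsZero.iff_id_eq_zero _).2 (by rw [← cancel_epi (cokernel.π S.arrow), h0]; simp))
    haveI : IsIso S.arrow := isIso_of_mono_of_epi _
    exact Subobject.eq_top_of_isIso_arrow S)
  obtain ⟨V, hV, h, hh⟩ := exists_affine_gen_ne_zero _ hq
  haveI : IsAffine (V : Scheme.{u}) := hV
  haveI : IsLocallyNoetherian (V : Scheme.{u}) := isLocallyNoetherian_of_isOpenImmersion V.ι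
  haveI : IsNoetherian (V : Scheme.{u}) := {}
  have hKn : WellFoundedGT (Subobject (pullback S.arrow h)) := by
    have hG : WellFoundedGT (Subobject ((lsh V.ι).obj (Coh.structureModule (V : Scheme.{u})))) :=
      wellFoundedGT_iff_monotone_chain_condition.2 fun c =>
        chain_stabilizes_lsh V.ι (Iso.refl _) c
    haveI := hG
    exact StrictMono.wellFoundedGT (f := (Subobject.map (pullback.snd S.arrow h)).obj)
      (Monotone.strictMono_of_injective (fun a b hab => leOfHom ((Subobject.map _).map (homOfLE hab)))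
        (Subobject.map_obj_injective _))
  obtain ⟨s, hs⟩ := exists_finset_killing I (pullback.fst S.arrow h ≫ g) hKn
  let pr : ∀ i, ∐ I ⟶ I i := fun i => Sigma.desc fun j => if hji : j = i then eqToHom (by rw [hji]) else 0
  have htot : Sigma.desc (fun i => if i ∈ s then 0 else Sigma.ι I i) + ∑ i ∈ s, pr i ≫ Sigma.ι I i = 𝟙 _ := by
    refine Sigma.hom_ext _ _ fun j => ?_
    rw [Preadditive.comp_add, Preadditive.comp_sum, Sigma.ι_desc, Category.comp_id]
    have : ∀ i, Sigma.ι I j ≫ pr i ≫ Sigma.ι I i = if j = i then Sigma.ι I j else 0 := fun i => by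
      by_cases hji : j = i
      · subst hji; simp [pr]
      · simp [pr, hji]
    rw [Finset.sum_congr rfl fun i _ => this i, Finset.sum_ite_eq]
    by_cases hj : j ∈ s <;> simp [hj]
  have := hI
  let e := ∑ i ∈ s, Injective.factorThru ((pullback.fst S.arrow h ≫ g) ≫ pr i) (pullback.snd S.arrow h) ≫
    Sigma.ι I i
  refine exists_step S g h e ?_ fun ⟨l, hl⟩ => hh (by rw [← hl, Category.assoc, cokernel.condition, comp_zero])
  calc pullback.fst S.arrow h ≫ g = (pullback.fst S.arrow h ≫ g) ≫ 𝟙 _ := (Category.comp_id _).symm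
    _ = pullback.snd S.arrow h ≫ e := by
      rw [← htot, Preadditive.comp_add, hs, zero_add]
      simp only [e, Preadditive.comp_sum, Injective.comp_factorThru_assoc, Category.assoc]

end Groth.Agent.VBPnX.InjSlim
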