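import Groth.Agent.KFlatLib.Scheme.Sky
import Groth.Agent.KFlatLib.Scheme.Exact
import Groth.Agent.TriCat.GrothInst
import Mathlib.Algebra.Category.ModuleCat.Sheaf.PullbackContinuous
import Mathlib.CategoryTheory.Adjunction.Triple
import Mathlib.CategoryTheory.Adjunction.Additive
import Mathlib.Algebra.Category.ModuleCat.Presheaf.Generator
import Mathlib.CategoryTheory.Generator.Basic
import Mathlib.CategoryTheory.Abelian.GrothendieckAxioms.Basic
import Mathlib.CategoryTheory.Abelian.GrothendieckCategory.Basic

/-!
# Extension by zero along an open immersion, with few imports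
-/

set_option linter.style.haveILetI false
set_option backward.isDefEq.respectTransparency false

universe u

open CategoryTheory CategoryTheory.Limits AlgebraicGeometry TopologicalSpace Opposite MonoidalCategory

namespace Groth.Agent.VBPnX.InjSlim

open Groth.Agent.KFlatLib

variable {U X : Scheme.{u}} (j : U ⟶ X) [IsOpenImmersion j]

instance isRightAdjoint_restrictFunctor : (Scheme.Modules.restrictFunctor j).IsRightAdjoint := by
  have h : ∀ (φ : U.ringCatSheaf ⟶ (j.opensFunctor.sheafPushforwardContinuous RingCat.{u}
      (Opens.grothendieckTopology U) (Opens.grothendieckTopology X)).obj X.ringCatSheaf),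
      (SheafOfModules.pushforward.{u} φ).IsRightAdjoint := by
    intro φ
    have h1 : (PresheafOfModules.pushforward.{u} (F := j.opensFunctor) (R := X.ringCatSheaf.obj)
      φ.hom).IsRightAdjoint := inferInstance
    exact @inferInstance _ (by infer_instance)
  exact h _

/-- Extension by zero. -/
noncomputable def lsh : U.Modules ⥤ X.Modules := (Scheme.Modules.restrictFunctor j).leftAdjoint

/-- Extension by zero is left adjoint to restriction. -/
noncomputable def lshAdj : lsh j ⊣ Scheme.Modules.restrictFunctor j :=
  Adjunction.ofIsRightAdjoint _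

instance : (lsh j).IsLeftAdjoint := (lshAdj j).isLeftAdjoint

instance additive_lsh : (lsh j).Additive := (lshAdj j).left_adjoint_additive

instance isIso_lshAdj_unit : IsIso (lshAdj j).unit := by
  let t : Adjunction.Triple (lsh j) (Scheme.Modules.restrictFunctor j) (Scheme.Modules.pushforward j) :=
    ⟨lshAdj j, Scheme.Modules.restrictAdjunction j⟩
  have h := t.fullyFaithfulEquiv.symm (Scheme.Modules.restrictAdjunction j).fullyFaithfulROfIsIsoCounit
  haveI := h.full
  haveI := h.faithful
  infer_instance

/-- A section map into the skyscraper of the stalk. -/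
noncomputable def skyUnit (y : X) (M : X.Modules) :
    M ⟶ (sky y).obj (stalkMod y (DCoh.toP.obj M)) :=
  ⟨{ app := fun V => ModuleCat.ofHom (X := (DCoh.toP.obj M).obj V)
        (Y := skyObj y (stalkMod y (DCoh.toP.obj M)) V)
      { toFun := fun s h => germP (DCoh.toP.obj M) V.unop h.down s
        map_add' := fun s t => funext fun h => map_add _ s t
        map_smul' := fun r s => funext fun h => germP_smul (P := DCoh.toP.obj M) V.unop h.down r s }
     naturality := fun {V W} i => by
      apply ModuleCat.hom_ext
      refine LinearMap.ext fun s => funext fun h => ?_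
      exact germP_res (P := DCoh.toP.obj M) i.unop h.down s }⟩

/-- Outside of the open, extensions by zero have zero stalks. -/
lemma isZero_stalk_lsh (x : X) (hx : x ∉ Set.range j.base) (M : U.Modules) :
    IsZero ((DerSch.stalkFunctor X x).obj ((lsh j).obj M)) := by
  let L := (lsh j).obj M
  let S := stalkMod x (DCoh.toP.obj L)
  have hzero : skyUnit x L = 0 := by
    refine ((lshAdj j).homEquiv _ _).injective (SheafOfModules.hom_ext ?_)
    refine PresheafOfModules.Hom.ext (funext fun V => ?_)
    apply ModuleCat.hom_ext
    refine LinearMap.ext fun s => funext fun h => ?_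
    exact absurd ⟨_, (h.down : x ∈ j ''ᵁ V.unop).choose_spec.2⟩ hx
  refine ModuleCat.isZero_of_iff_subsingleton.2 ?_
  have hs : ∀ m : S, m = 0 := fun m => by
    obtain ⟨W, hW, s, rfl⟩ := exists_germP m
    have h := congrArg (fun t : L ⟶ (sky x).obj S => ((t.val.app (op W)) s : _)) hzero
    exact congrArg (fun t : (skyP x S).obj (op W) => (t ⟨hW⟩ : S)) h
  haveI : Subsingleton ((DCoh.toP ⋙ stalkP x).obj L : Type u) :=
    ⟨fun a b => (hs a).trans (hs b).symm⟩
  exact ((stalkToPIso x).app L).toLinearEquiv.toEquiv.subsingleton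

/-- Injectivity on stalks inside an open can be checked after restricting. -/
lemma injective_stalk_of_restrict {M N : X.Modules} (f : M ⟶ N) (u : U)
    (h : Function.Injective ((DerSch.stalkFunctor U u).map ((Scheme.Modules.restrictFunctor j).map f))) :
    Function.Injective ((DerSch.stalkFunctor X (j.base u)).map f) := by
  have e := Scheme.Modules.restrictStalkNatIso j u
  let F₀ := Scheme.Modules.restrictFunctor j ⋙ Scheme.Modules.toPresheaf U ⋙
    TopCat.Presheaf.stalkFunctor Ab.{u} u
  have hF : Mono (F₀.map f) := (AddCommGrpCat.mono_iff_injective _).2 h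
  have h1 : Mono ((Scheme.Modules.toPresheaf X ⋙ TopCat.Presheaf.stalkFunctor Ab.{u} (j.base u)).map f) :=
    ((MorphismProperty.monomorphisms _).arrow_mk_iso_iff
      (((Functor.mapArrowFunctor _ _).mapIso e).app (Arrow.mk f))).1 hF
  exact (AddCommGrpCat.mono_iff_injective _).1 h1

/-- Surjectivity on stalks inside an open can be checked after restricting. -/
lemma surjective_stalk_of_restrict {M N : X.Modules} (f : M ⟶ N) (u : U)
    (h : Function.Surjective ((DerSch.stalkFunctor U u).map ((Scheme.Modules.restrictFunctor j).map f))) :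
    Function.Surjective ((DerSch.stalkFunctor X (j.base u)).map f) := by
  have e := Scheme.Modules.restrictStalkNatIso j u
  let F₀ := Scheme.Modules.restrictFunctor j ⋙ Scheme.Modules.toPresheaf U ⋙
    TopCat.Presheaf.stalkFunctor Ab.{u} u
  have hF : Epi (F₀.map f) := (AddCommGrpCat.epi_iff_surjective _).2 h
  have h1 : Epi ((Scheme.Modules.toPresheaf X ⋙ TopCat.Presheaf.stalkFunctor Ab.{u} (j.base u)).map f) :=
    ((MorphismProperty.epimorphisms _).arrow_mk_iso_iff
      (((Functor.mapArrowFunctor _ _).mapIso e).app (Arrow.mk f))).1 hF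
  exact (AddCommGrpCat.epi_iff_surjective _).1 h1

/-- A map vanishing outside an open is an iso if it is one on the open. -/
lemma isIso_of_restrict_of_stalk {M N : X.Modules} (f : M ⟶ N)
    (h : IsIso ((Scheme.Modules.restrictFunctor j).map f))
    (hM : ∀ x ∉ Set.range j.base, IsZero ((DerSch.stalkFunctor X x).obj M))
    (hN : ∀ x ∉ Set.range j.base, IsZero ((DerSch.stalkFunctor X x).obj N)) : IsIso f := by
  refine isIso_of_stalk _ fun x => ?_
  by_cases hx : x ∈ Set.range j.base
  · obtain ⟨u, rfl⟩ := hx
    haveI := h
    have hb := ConcreteCategory.bijective_of_isIso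
      ((DerSch.stalkFunctor U u).map ((Scheme.Modules.restrictFunctor j).map f))
    exact (ConcreteCategory.isIso_iff_bijective _).2
      ⟨injective_stalk_of_restrict j f u hb.1, surjective_stalk_of_restrict j f u hb.2⟩
  · exact ⟨0, (hM x hx).eq_of_src _ _, (hN x hx).eq_of_src _ _⟩

instance preservesMonomorphisms_lsh : (lsh j).PreservesMonomorphisms where
  preserves {M N} g hg := by
    refine (ShortComplex.exact_iff_mono
      (ShortComplex.mk (0 : (lsh j).obj M ⟶ (lsh j).obj M) ((lsh j).map g) zero_comp) rfl).1 ?_
    refine (exact_iff_stalk _).2 fun x => ((ShortComplex.mk (0 : (lsh j).obj M ⟶ (lsh j).obj M)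
      ((lsh j).map g) zero_comp).map (DerSch.stalkFunctor X x)).exact_iff_mono
        ((DerSch.stalkFunctor X x).map_zero _ _) |>.2 ?_
    by_cases hx : x ∈ Set.range j.base
    · obtain ⟨u, rfl⟩ := hx
      refine (ModuleCat.mono_iff_injective _).2 (injective_stalk_of_restrict j _ u ?_)
      haveI : Mono ((lsh j ⋙ Scheme.Modules.restrictFunctor j).map g) :=
        ((MorphismProperty.monomorphisms _).arrow_mk_iso_iff
          (((Functor.mapArrowFunctor _ _).mapIso (asIso (lshAdj j).unit)).app (Arrow.mk g))).1 hg
      exact (ModuleCat.mono_iff_injective _).1 (inferInstanceAs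
        (Mono ((DerSch.stalkFunctor U u).map ((lsh j ⋙ Scheme.Modules.restrictFunctor j).map g))))
    · exact ⟨fun _ _ _ => (isZero_stalk_lsh j x hx M).eq_of_tgt _ _⟩

instance preservesFiniteColimits_lsh : PreservesFiniteColimits (lsh j) := by
  have : PreservesColimitsOfSize.{0, 0} (lsh j) := (lshAdj j).leftAdjoint_preservesColimits
  exact ⟨fun _ => inferInstance⟩

instance preservesFiniteLimits_lsh : PreservesFiniteLimits (lsh j) :=
  haveI : (lsh j).PreservesHomology :=
    Functor.preservesHomology_of_preservesMonos_and_cokernels (lsh j)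
  Functor.preservesFiniteLimits_of_preservesHomology (lsh j)

/-- A left adjoint of a faithful functor maps a separator to a separator. -/
lemma hasSeparator_of_adjunction {C D : Type*} [Category C] [Category D] [HasSeparator C]
    {F : C ⥤ D} {G : D ⥤ C} (adj : F ⊣ G) [G.Faithful] : HasSeparator D := by
  refine ⟨⟨F.obj (separator C), (isSeparator_def _).2 fun X Y f g hfg => G.map_injective ?_⟩⟩
  refine (isSeparator_def _).1 (isSeparator_separator C) _ _ fun h => ?_
  apply (adj.homEquiv _ _).symm.injective
  rw [adj.homEquiv_naturality_right_symm, adj.homEquiv_naturality_right_symm]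
  exact hfg _

instance isGrothendieckAbelian_modules (X : Scheme.{u}) : IsGrothendieckAbelian.{u} X.Modules where
  ab5OfSize := ⟨fun J _ _ => hasExactColimitsOfShape X J⟩
  hasSeparator := by
    haveI : (PresheafOfModules.restrictScalars.{u} (𝟙 X.ringCatSheaf.obj)).Faithful := inferInstance
    haveI : (SheafOfModules.forget.{u} X.ringCatSheaf ⋙
        PresheafOfModules.restrictScalars.{u} (𝟙 X.ringCatSheaf.obj)).Faithful := Functor.Faithful.comp _ _
    exact @hasSeparator_of_adjunction _ _ _ _ _ _ _
      (PresheafOfModules.sheafificationAdjunction (𝟙 X.ringCatSheaf.obj)) (by assumption)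

section

variable {X : Scheme.{u}}

lemma eq_zero_of_stalk {K F : X.Modules} (z : K ⟶ F)
    (h : ∀ x, (DerSch.stalkFunctor X x).map z = 0) : z = 0 := by
  haveI : IsIso (kernel.ι z) := isIso_of_stalk _ fun x => by
    haveI : IsIso (kernel.ι ((DerSch.stalkFunctor X x).map z)) :=
      ⟨kernel.lift _ (𝟙 _) (by rw [h x, comp_zero]), by
        rw [← cancel_mono (kernel.ι ((DerSch.stalkFunctor X x).map z)), Category.assoc, kernel.lift_ι,
          Category.comp_id, Category.id_comp], kernel.lift_ι _ _ _⟩
    rw [← kernelComparison_comp_ι z (DerSch.stalkFunctor X x)]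
    infer_instance
  rw [← cancel_epi (kernel.ι z), kernel.condition, comp_zero]

lemma stalk_zero_of_restrict (U : X.Opens) {M N : X.Modules} (z : M ⟶ N)
    (h : (Scheme.Modules.restrictFunctor U.ι).map z = 0) (x : X) (hx : x ∈ U) :
    (DerSch.stalkFunctor X x).map z = 0 := by
  let u : (U : Scheme.{u}) := ⟨x, hx⟩
  have e := Scheme.Modules.restrictStalkNatIso U.ι u
  let F₀ := Scheme.Modules.restrictFunctor U.ι ⋙ Scheme.Modules.toPresheaf (U : Scheme.{u}) ⋙
    TopCat.Presheaf.stalkFunctor Ab.{u} u
  have h0 : F₀.map z = 0 := by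
    change (Scheme.Modules.toPresheaf (U : Scheme.{u}) ⋙ TopCat.Presheaf.stalkFunctor Ab.{u} u).map
      ((Scheme.Modules.restrictFunctor U.ι).map z) = 0
    rw [h, Functor.map_zero]
  have h1 : (Scheme.Modules.toPresheaf X ⋙ TopCat.Presheaf.stalkFunctor Ab.{u} x).map z = 0 := by
    have h2 := e.hom.naturality z
    rw [show F₀.map z = 0 from h0, zero_comp] at h2
    exact (cancel_epi (e.hom.app M)).1 (h2.symm.trans comp_zero.symm)
  apply (forget₂ (ModuleCat (X.presheaf.stalk x)) AddCommGrpCat).map_injective
  rw [Functor.map_zero]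
  exact h1

end

end Groth.Agent.VBPnX.InjSlim
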