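import Groth.Agent.VBPnX.InjSlim.Main
import Groth.Agent.QCoh.Qcqs

/-!
# The sheaf of an injective module on a Noetherian affine scheme
-/

set_option autoImplicit false
set_option linter.style.haveILetI false
set_option backward.isDefEq.respectTransparency false
set_option backward.isDefEq.respectTransparency.types false

universe u

open CategoryTheory CategoryTheory.Limits AlgebraicGeometry TopologicalSpace Opposite

namespace Groth.Agent.VBPnX.InjSlim

theorem injective_of_ringEquiv {A B : Type u} [CommRing A] [CommRing B] (σ : A ≃+* B) {E T : Type u}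
    [AddCommGroup E] [Module A E] [Module.Injective A E] [AddCommGroup T] [Module B T] (δ : T ≃+ E)
    (hδ : ∀ a t, δ (σ a • t) = a • δ t) : Module.Injective B T := by
  refine Module.Baer.injective fun J g => ?_
  let g' : Ideal.comap (σ : A →+* B) J →ₗ[A] E :=
    { toFun := fun a => δ (g ⟨σ a.1, a.2⟩)
      map_add' := fun a b => by
        rw [← map_add, ← map_add]
        exact congrArg δ (congrArg g (Subtype.ext (map_add σ a.1 b.1)))
      map_smul' := fun r a => by
        rw [RingHom.id_apply, ← hδ, ← map_smul]
        exact congrArg δ (congrArg g (Subtype.ext (map_mul σ r a.1))) }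
  obtain ⟨h, hh⟩ := LC.exists_extension (Ideal.comap (σ : A →+* B) J).subtype Subtype.val_injective g'
  refine ⟨LinearMap.toSpanSingleton B T (δ.symm (h 1)), fun z hz => δ.injective ?_⟩
  obtain ⟨a, rfl⟩ := σ.surjective z
  rw [LinearMap.toSpanSingleton_apply, hδ, δ.apply_symm_apply, ← map_smul, smul_eq_mul, mul_one]
  exact LinearMap.congr_fun hh ⟨a, hz⟩

/-- On a Noetherian affine scheme the sheaf of an injective module is injective. -/
theorem injective_tilde {R : CommRingCat.{u}} [IsNoetherianRing R] (M : ModuleCat.{u} R) [Injective M] :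
    Injective (tilde M) := by
  haveI : Module.Injective R M := Module.injective_module_of_injective_object R M
  haveI : IsLocallyNoetherian (Spec R) := inferInstance
  refine injective_of_affine (tilde M) (QCoh.isQCoh_spec_iff.2 ⟨M, ⟨Iso.refl _⟩⟩)
    fun x => ⟨⊤, isAffineOpen_top _, trivial, ?_⟩
  haveI : Injective (moduleSpecΓFunctor.obj (tilde M)) := Injective.of_iso (tilde.toTildeΓNatIso.app M) ‹_›
  haveI : Module.Injective R (moduleSpecΓFunctor.obj (tilde M)) :=
    Module.injective_module_of_injective_object R _
  exact injective_of_ringEquiv (Scheme.ΓSpecIso R).symm.commRingCatIsoToRingEquiv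
    (E := (moduleSpecΓFunctor.obj (tilde M))) (T := Γ(tilde M, ⊤)) (AddEquiv.refl _) fun a t => by
      show (Scheme.ΓSpecIso R).inv a • t = (_ : Γ(tilde M, ⊤))
      rw [Scheme.Modules.smul_Spec_def]
      exact congrArg (· • t) (QCoh.ringMap_id _ _).symm

end Groth.Agent.VBPnX.InjSlim
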