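import Groth.Agent.QCoh.Stalk
import Groth.Agent.QCoh.Support
import Groth.Agent.QCoh.FT
import Groth.Agent.LC.InjBasic

/-!
# Quasi-coherent modules with injective sections on affine opens: extension of sections
-/

set_option autoImplicit false
set_option linter.style.haveILetI false
set_option backward.isDefEq.respectTransparency false
set_option backward.isDefEq.respectTransparency.types false

universe u

open CategoryTheory AlgebraicGeometry Opposite TopologicalSpace

namespace Groth.Agent.VBPnX.InjSlim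

/-- Localizations of injective modules over Noetherian rings are injective. -/
theorem injective_of_isLocalizedModule {A : Type u} [CommRing A] [IsNoetherianRing A] (S : Submonoid A)
    (B : Type u) [CommRing B] [Algebra A B] [IsLocalization S B] {I : Type u} [AddCommGroup I] [Module A I]
    [Module.Injective A I] {I' : Type u} [AddCommGroup I'] [Module A I'] [Module B I'] [IsScalarTower A B I']
    (f : I →ₗ[A] I') [IsLocalizedModule S f] : Module.Injective B I' := by
  refine Module.Baer.injective fun J φ => ?_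
  let J₀ : Ideal A := J.comap (algebraMap A B)
  let ψ : J₀ →ₗ[A] I' :=
    { toFun := fun a => φ ⟨algebraMap A B a.1, a.2⟩
      map_add' := fun a b => by
        rw [← map_add]
        exact congrArg φ (Subtype.ext (map_add (algebraMap A B) a.1 b.1))
      map_smul' := fun r a => by
        rw [RingHom.id_apply, ← algebraMap_smul B r (φ _), ← map_smul]
        exact congrArg φ (Subtype.ext (map_mul (algebraMap A B) r a.1)) }
  haveI : Module.FinitePresentation A J₀ := Module.finitePresentation_of_finite A J₀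
  obtain ⟨h, s, hs⟩ := Module.FinitePresentation.exists_lift_of_isLocalizedModule S f ψ
  obtain ⟨g, hg⟩ := Module.Injective.out J₀.subtype Subtype.val_injective h
  refine ⟨LinearMap.toSpanSingleton B I' (IsLocalizedModule.mk' f (g 1) s), fun z hz => ?_⟩
  obtain ⟨a, t, rfl⟩ : ∃ a t, IsLocalization.mk' B a t = z := IsLocalization.exists_mk'_eq S z
  have ha : algebraMap A B a ∈ J := by
    rw [← IsLocalization.mk'_spec B a t]
    exact J.mul_mem_right _ hz
  have key : algebraMap A B a • IsLocalizedModule.mk' f (g 1) s = φ ⟨algebraMap A B a, ha⟩ := by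
    apply IsLocalizedModule.smul_injective f s
    show s.1 • algebraMap A B a • IsLocalizedModule.mk' f (g 1) s = s.1 • φ ⟨algebraMap A B a, ha⟩
    rw [algebraMap_smul, smul_comm]
    have h2 : s.1 • φ ⟨algebraMap A B a, ha⟩ = f (g a) := by
      have := LinearMap.congr_fun hs (⟨a, ha⟩ : J₀)
      rw [show g a = h ⟨a, ha⟩ from hg ⟨a, ha⟩]
      exact this.symm
    rw [h2, show (s.1 : A) • IsLocalizedModule.mk' f (g 1) s = f (g 1) from IsLocalizedModule.mk'_cancel' f (g 1) s,
      ← map_smul, ← map_smul, smul_eq_mul, mul_one]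
  show IsLocalization.mk' B a t • IsLocalizedModule.mk' f (g 1) s = φ ⟨_, hz⟩
  refine ((IsLocalization.map_units B t).smul_left_cancel).1 ?_
  rw [smul_smul, ← map_smul, mul_comm, IsLocalization.mk'_spec, key]
  exact congrArg φ (Subtype.ext (show algebraMap A B a = algebraMap A B t * IsLocalization.mk' B a t by
    rw [mul_comm, IsLocalization.mk'_spec]))

section Alg

variable {A : Type u} [CommRing A] [IsNoetherianRing A] {E : Type u} [AddCommGroup E] [Module A E]
  [Module.Injective A E]

/-- The elements killed by a power of an ideal. -/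
abbrev tors (J : Ideal A) : Submodule A E :=
  ⨆ n : ℕ, Submodule.torsionBySet A E ((J ^ n : Ideal A) : Set A)

/-- Division by a power in an injective module over a Noetherian ring. -/
theorem exists_div (f : A) (y : E) (n : ℕ) : ∃ (e : E) (m : ℕ), f ^ m • (f ^ n • e) = f ^ m • y := by
  let c : ℕ →o Ideal A := ⟨fun k => LinearMap.ker (LinearMap.toSpanSingleton A A (f ^ k)), fun a b h z hz => by
    obtain ⟨c, rfl⟩ := Nat.exists_eq_add_of_le h
    simp only [LinearMap.mem_ker, LinearMap.toSpanSingleton_apply, smul_eq_mul] at hz ⊢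
    rw [pow_add, ← mul_assoc, hz, zero_mul]⟩
  obtain ⟨k, hk⟩ := monotone_stabilizes_iff_noetherian.2 ‹IsNoetherianRing A› c
  let ι := LinearMap.toSpanSingleton A A (f ^ (k + n))
  have hle : LinearMap.ker ι ≤ LinearMap.ker (LinearMap.toSpanSingleton A E (f ^ k • y)) := fun z hz => by
    have h1 : z ∈ c k := by
      rw [hk (k + n) (by omega)]
      exact hz
    have h2 : z * f ^ k = 0 := h1
    rw [LinearMap.mem_ker, LinearMap.toSpanSingleton_apply, smul_smul, h2, zero_smul]
  let g : LinearMap.range ι →ₗ[A] E :=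
    (Submodule.liftQ _ (LinearMap.toSpanSingleton A E (f ^ k • y)) hle) ∘ₗ ι.quotKerEquivRange.symm.toLinearMap
  obtain ⟨h, hh⟩ := LC.exists_extension (LinearMap.range ι).subtype Subtype.val_injective g
  refine ⟨h 1, k, ?_⟩
  have h3 := LinearMap.congr_fun hh ⟨ι 1, ⟨1, rfl⟩⟩
  have h4 : ι.quotKerEquivRange.symm ⟨ι 1, ⟨1, rfl⟩⟩ = Submodule.Quotient.mk 1 := by
    rw [LinearEquiv.symm_apply_eq]
    exact Subtype.ext (ι.quotKerEquivRange_apply_mk 1).symm
  simp only [g, LinearMap.comp_apply, LinearEquiv.coe_coe, h4, Submodule.liftQ_apply,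
    LinearMap.toSpanSingleton_apply, one_smul, Submodule.subtype_apply] at h3
  rw [smul_smul, ← pow_add, ← map_smul, smul_eq_mul, mul_one]
  simpa [ι] using h3

/-- Division by a power inside the power torsion part. -/
theorem exists_div_tors (J : Ideal A) (f : A) (y : E) (hy : y ∈ (tors J : Submodule A E)) (n : ℕ) :
    ∃ e ∈ (tors J : Submodule A E), ∃ m : ℕ, f ^ m • (f ^ n • e) = f ^ m • y := by
  haveI := LC.injective_torsion (I := E) J
  obtain ⟨e, m, h⟩ := exists_div (E := ↥(tors J : Submodule A E)) f ⟨y, hy⟩ n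
  exact ⟨e.1, e.2, m, congrArg Subtype.val h⟩

end Alg

variable {X : Scheme.{u}} (I : X.Modules)

theorem map_zero_of_smul {U : X.Opens} (f : Γ(X, U)) (e : Γ(I, U)) (n : ℕ) (h : f ^ n • e = 0) :
    I.presheaf.map (homOfLE (X.basicOpen_le f)).op e = 0 := by
  have h2 := congrArg (I.presheaf.map (homOfLE (X.basicOpen_le f)).op) h
  rw [QCoh.map_smul', map_pow, map_zero] at h2
  have hu : IsUnit (X.presheaf.map (homOfLE (X.basicOpen_le f)).op f ^ n) :=
    (X.toRingedSpace.isUnit_res_basicOpen f).pow n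
  exact hu.smul_eq_zero.1 h2

variable {I}

theorem eq_zero_of_cover {W : X.Opens} {ι : Type*} (O : ι → X.Opens) (hO : W ≤ ⨆ i, O i) (s : Γ(I, W))
    (h : ∀ (i : ι) (z : X) (hz : z ∈ W), z ∈ O i → I.presheaf.germ W z hz s = 0) : s = 0 :=
  TopCat.Presheaf.section_ext ⟨I.presheaf, I.isSheaf⟩ W s 0 fun z hz => by
    obtain ⟨i, hi⟩ := Opens.mem_iSup.1 (hO hz)
    rw [h i z hz hi]
    exact (map_zero _).symm

/-- Sections of a module with injective sections over a Noetherian affine open extend. -/
theorem exists_extend (hI : Coh.IsQCoh I) {U : X.Opens} (hU : IsAffineOpen U) [IsNoetherianRing Γ(X, U)]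
    [Module.Injective Γ(X, U) Γ(I, U)] {W : X.Opens} (hW : W ≤ U) (t : Γ(I, W)) :
    ∃ e : Γ(I, U), I.presheaf.map (homOfLE hW).op e = t := by
  classical
  -- finitely many basic opens covering `W`
  obtain ⟨s, hs⟩ : ∃ s : Finset Γ(X, U), W = ⨆ f ∈ s, X.basicOpen f := by
    have hc : IsCompact (W : Set X) := by
      haveI : NoetherianSpace (U : Set X) := AlgebraicGeometry.noetherianSpace_of_isAffineOpen U hU
      have h1 : IsCompact (Subtype.val ⁻¹' (W : Set X) : Set ↥(U : Set X)) := NoetherianSpace.isCompact _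
      have h2 := h1.image continuous_subtype_val
      rwa [Subtype.image_preimage_coe, Set.inter_eq_right.2 (SetLike.coe_subset_coe.2 hW)] at h2
    choose g hgW hgx using fun x : W => hU.exists_basicOpen_le ⟨x.1, x.2⟩ (hW x.2)
    obtain ⟨T, hT⟩ := hc.elim_finite_subcover (fun x : W => (X.basicOpen (g x) : Set X))
      (fun x => (X.basicOpen (g x)).2) fun x hx => Set.mem_iUnion.2 ⟨⟨x, hx⟩, hgx ⟨x, hx⟩⟩
    refine ⟨T.image g, le_antisymm (fun x hx => ?_) (iSup₂_le fun f hf => ?_)⟩
    · obtain ⟨i, hi, hxi⟩ := Set.mem_iUnion₂.1 (hT hx)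
      exact Opens.mem_iSup.2 ⟨g i, Opens.mem_iSup.2 ⟨Finset.mem_image_of_mem g hi, hxi⟩⟩
    · obtain ⟨i, -, rfl⟩ := Finset.mem_image.1 hf
      exact hgW i
  have hsW : ∀ f ∈ s, X.basicOpen f ≤ W := fun f hf => by
    rw [hs]
    exact le_iSup₂_of_le f hf le_rfl
  -- induction on the finite family
  suffices H : ∀ T : Finset Γ(X, U), (hT : ∀ f ∈ T, X.basicOpen f ≤ W) → ∃ e : Γ(I, U), ∀ f (hf : f ∈ T),
      I.presheaf.map (homOfLE (X.basicOpen_le f)).op e = I.presheaf.map (homOfLE (hT f hf)).op t by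
    obtain ⟨e, he⟩ := H s hsW
    refine ⟨e, sub_eq_zero.1 (eq_zero_of_cover (fun f : s => X.basicOpen f.1)
      (by rw [iSup_subtype]; exact hs.le) _ fun f z hz hzf => ?_)⟩
    rw [map_sub, I.presheaf.germ_res_apply, sub_eq_zero, ← I.presheaf.germ_res_apply (homOfLE (hsW f.1 f.2)) z hzf t,
      ← he f.1 f.2, I.presheaf.germ_res_apply]
  intro T
  induction T using Finset.induction with
  | empty => exact fun _ => ⟨0, fun f hf => absurd hf (Finset.notMem_empty f)⟩
  | @insert g T hg ih =>
    intro hT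
    obtain ⟨e, he⟩ := ih fun f hf => hT f (Finset.mem_insert_of_mem hf)
    have hgW := hT g (Finset.mem_insert_self g T)
    let t' : Γ(I, W) := t - I.presheaf.map (homOfLE hW).op e
    obtain ⟨n, y, hy⟩ := QCoh.exists_pow_smul_eq_map hI hU g (I.presheaf.map (homOfLE hgW).op t')
    let J : Ideal Γ(X, U) := Ideal.span (T : Set Γ(X, U))
    have hfg : ∀ f ∈ T, ∃ N : ℕ, (f * g) ^ N • y = 0 := fun f hf => by
      refine QCoh.exists_pow_smul_eq_zero hI hU (f * g) y ?_
      refine eq_zero_of_cover (fun _ : Unit => X.basicOpen (f * g)) (le_iSup_of_le () le_rfl) _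
        fun _ z hz _ => ?_
      have hz' : z ∈ X.basicOpen f ⊓ X.basicOpen g := X.basicOpen_mul f g ▸ hz
      have h2 : I.presheaf.germ W z (hgW hz'.2) t' = 0 := by
        rw [map_sub, sub_eq_zero, ← I.presheaf.germ_res_apply (homOfLE (hT f (Finset.mem_insert_of_mem hf))) z hz'.1 t,
          ← he f hf, I.presheaf.germ_res_apply, I.presheaf.germ_res_apply]
      rw [I.presheaf.germ_res_apply, ← I.presheaf.germ_res_apply (homOfLE (X.basicOpen_le g)) z hz'.2 y, hy,
        QCoh.germ_smul', I.presheaf.germ_res_apply, h2, smul_zero]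
    choose N hN using hfg
    let K := T.attach.sup fun f => N f.1 f.2
    have hK : ∀ f ∈ T, f ^ K • (g ^ K • y) = 0 := fun f hf => by
      have hle : N f hf ≤ K := Finset.le_sup (f := fun f : {x // x ∈ T} => N f.1 f.2) (Finset.mem_attach T ⟨f, hf⟩)
      rw [smul_smul, ← mul_pow, ← Nat.sub_add_cancel hle, pow_add, mul_smul, hN f hf, smul_zero]
    have hy1 : g ^ K • y ∈ (tors J : Submodule Γ(X, U) Γ(I, U)) := by
      let a : Ideal Γ(X, U) := LinearMap.ker (LinearMap.toSpanSingleton Γ(X, U) Γ(I, U) (g ^ K • y))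
      have hJ : J ≤ a.radical := Ideal.span_le.2 fun f hf => ⟨K, hK f hf⟩
      obtain ⟨M, hM⟩ := Ideal.exists_pow_le_of_le_radical_of_fg hJ (IsNoetherian.noetherian J)
      exact (LC.mem_iSup_torsionBySet J _).2 ⟨M, fun r hr => hM hr⟩
    obtain ⟨e', he', m, hm⟩ := exists_div_tors J g _ hy1 (K + n)
    obtain ⟨M, hM⟩ := (LC.mem_iSup_torsionBySet J e').1 he'
    refine ⟨e + e', fun f hf => ?_⟩
    rw [map_add]
    rcases Finset.mem_insert.1 hf with rfl | hfT
    · have h1 := congrArg (I.presheaf.map (homOfLE (X.basicOpen_le f)).op) hm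
      rw [QCoh.map_smul', QCoh.map_smul', QCoh.map_smul', QCoh.map_smul', map_pow, map_pow, map_pow, hy,
        smul_smul, smul_smul, smul_smul, ← pow_add, ← pow_add, ← pow_add] at h1
      have hu : IsUnit (X.presheaf.map (homOfLE (X.basicOpen_le f)).op f ^ (m + (K + n))) :=
        (X.toRingedSpace.isUnit_res_basicOpen f).pow _
      rw [add_assoc] at h1
      have h2 := hu.smul_left_cancel.1 h1
      rw [h2, map_sub, I.presheaf.map (homOfLE hgW).op |> fun φ => QCoh.map_map _ _ e]
      exact add_sub_cancel _ _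
    · rw [map_zero_of_smul I f e' M (hM _ (Ideal.pow_mem_pow (Ideal.subset_span hfT) M)), add_zero]
      exact he f hfT

end Groth.Agent.VBPnX.InjSlim
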