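import Groth.Agent.VBPnX.InjSlim.Basic
import Mathlib.RingTheory.Ideal.AssociatedPrime.Finiteness
import Mathlib.RingTheory.Ideal.AssociatedPrime.Localization

/-!
# Hartshorne II.7.17: quasi-coherent modules with injective sections on affine opens are injective

`injective_of_affine` : on a locally Noetherian scheme a quasi-coherent module whose sections over an
affine neighbourhood of every point form an injective module is an injective `O_X`-module.

The proof extends a partial morphism, given by its graph in the stalks, one section at a time.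
-/

set_option autoImplicit false
set_option linter.style.haveILetI false
set_option backward.isDefEq.respectTransparency false
set_option backward.isDefEq.respectTransparency.types false
set_option maxHeartbeats 1000000

universe u

open CategoryTheory AlgebraicGeometry Opposite TopologicalSpace

namespace Groth.Agent.VBPnX.InjSlim

variable {X : Scheme.{u}}

theorem exists_affine_injective_le [IsLocallyNoetherian X] {I : X.Modules} (hI : Coh.IsQCoh I)
    (hinj : ∀ x : X, ∃ U : X.Opens, IsAffineOpen U ∧ x ∈ U ∧ Module.Injective Γ(X, U) Γ(I, U))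
    {O : X.Opens} {x : X} (hx : x ∈ O) :
    ∃ V : X.Opens, IsAffineOpen V ∧ x ∈ V ∧ V ≤ O ∧ Module.Injective Γ(X, V) Γ(I, V) := by
  obtain ⟨U, hU, hxU, hE⟩ := hinj x
  obtain ⟨g, hg, hxg⟩ := hU.exists_basicOpen_le ⟨x, hx⟩ hxU
  haveI := IsLocallyNoetherian.component_noetherian (X := X) ⟨U, hU⟩
  haveI := hU.isLocalization_basicOpen g
  letI := QCoh.basicModule g I
  haveI : IsScalarTower Γ(X, U) Γ(X, X.basicOpen g) Γ(I, X.basicOpen g) :=
    IsScalarTower.of_algebraMap_smul fun _ _ => rfl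
  haveI := QCoh.isLocalizedModule_basicRes g hI hU
  exact ⟨X.basicOpen g, hU.basicOpen g, hxg, hg,
    injective_of_isLocalizedModule (Submonoid.powers g) Γ(X, X.basicOpen g) (QCoh.basicRes g I)⟩

theorem injective_stalk [IsLocallyNoetherian X] {I : X.Modules} (hI : Coh.IsQCoh I) {U : X.Opens}
    (hU : IsAffineOpen U) [Module.Injective Γ(X, U) Γ(I, U)] {x : X} (hx : x ∈ U) :
    Module.Injective (X.presheaf.stalk x) (I.presheaf.stalk x) := by
  haveI := IsLocallyNoetherian.component_noetherian (X := X) ⟨U, hU⟩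
  letI := QCoh.stalkAlg hx
  letI := QCoh.stalkModule I hx
  haveI := QCoh.isScalarTower_stalk I hx
  haveI := QCoh.isLocalization_stalk' hU hx
  haveI := QCoh.isLocalizedModule_germLin hI hU hx
  exact injective_of_isLocalizedModule (hU.primeIdealOf ⟨x, hx⟩).asIdeal.primeCompl
    (X.presheaf.stalk x) (QCoh.germLin I hx)

variable (N I : X.Modules)

/-- The germ of a pair of sections. -/
noncomputable abbrev gp {U : X.Opens} (z : X) (hz : z ∈ U) (n : Γ(N, U)) (s : Γ(I, U)) :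
    N.presheaf.stalk z × I.presheaf.stalk z :=
  (N.presheaf.germ U z hz n, I.presheaf.germ U z hz s)

/-- A family of submodules of pairs of germs. -/
abbrev Gr : Type u := ∀ y : X, Submodule (X.presheaf.stalk y) (N.presheaf.stalk y × I.presheaf.stalk y)

variable {N I}

/-- The graph of a partial morphism: open and single-valued. -/
structure IsGr (G : Gr N I) : Prop where
  isOpen : ∀ y, ∀ p ∈ G y, ∃ (W : X.Opens) (hy : y ∈ W) (n : Γ(N, W)) (s : Γ(I, W)),
    gp N I y hy n s = p ∧ ∀ z (hz : z ∈ W), gp N I z hz n s ∈ G z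
  unique : ∀ y b, ((0 : N.presheaf.stalk y), b) ∈ G y → b = 0

theorem IsGr.eq_of_mem {G : Gr N I} (hG : IsGr G) {y : X} {a : N.presheaf.stalk y} {b b' : I.presheaf.stalk y}
    (h : (a, b) ∈ G y) (h' : (a, b') ∈ G y) : b = b' := by
  have h2 := sub_mem h h'
  rw [Prod.mk_sub_mk, sub_self] at h2
  exact sub_eq_zero.1 (hG.unique y _ h2)

/-- Glue a section from its values at the points. -/
theorem exists_section (W : X.Opens) (v : ∀ z, z ∈ W → I.presheaf.stalk z)
    (h : ∀ z, z ∈ W → ∃ (O : X.Opens) (_ : z ∈ O) (s : Γ(I, O)), ∀ y (hyO : y ∈ O) (hy : y ∈ W),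
      I.presheaf.germ O y hyO s = v y hy) :
    ∃ t : Γ(I, W), ∀ z (hz : z ∈ W), I.presheaf.germ W z hz t = v z hz := by
  choose O hO s hs using h
  let F : TopCat.Sheaf AddCommGrpCat.{u} X := ⟨I.presheaf, I.isSheaf⟩
  obtain ⟨t, ht, -⟩ := TopCat.Sheaf.existsUnique_gluing' F (fun z : W => O z.1 z.2 ⊓ W) W
    (fun z => homOfLE inf_le_right) (fun z hz => Opens.mem_iSup.2 ⟨⟨z, hz⟩, (⟨hO z hz, hz⟩ : z ∈ O z hz ⊓ W)⟩)
    (fun z => F.1.map (homOfLE inf_le_left).op (s z.1 z.2)) (fun i j => by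
      refine TopCat.Presheaf.section_ext F _ _ _ fun y hy => ?_
      erw [TopCat.Presheaf.germ_res_apply, TopCat.Presheaf.germ_res_apply, TopCat.Presheaf.germ_res_apply,
        TopCat.Presheaf.germ_res_apply, hs i.1 i.2 y hy.1.1 hy.1.2, hs j.1 j.2 y hy.2.1 hy.2.2])
  refine ⟨t, fun z hz => ?_⟩
  refine (TopCat.Presheaf.germ_res_apply I.presheaf (homOfLE (inf_le_right : O z hz ⊓ W ≤ W)) z ⟨hO z hz, hz⟩ t).symm.trans ?_
  refine (congrArg (I.presheaf.germ (O z hz ⊓ W) z ⟨hO z hz, hz⟩) (ht ⟨z, hz⟩)).trans ?_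
  exact (TopCat.Presheaf.germ_res_apply I.presheaf (homOfLE (inf_le_left : O z hz ⊓ W ≤ O z hz)) z
    (⟨hO z hz, hz⟩ : z ∈ O z hz ⊓ W) _).trans (hs z hz z (hO z hz) hz)

theorem exists_germ_pair {M M' : X.Modules} {z : X} {W W' : X.Opens} (hz : z ∈ W) (hz' : z ∈ W')
    (m : Γ(M, W)) (m' : Γ(M, W')) (h : M.presheaf.germ W z hz m = M.presheaf.germ W' z hz' m') :
    ∃ (O : X.Opens) (_ : z ∈ O) (h1 : O ≤ W) (h2 : O ≤ W'), ∀ y (hy : y ∈ O),
      M.presheaf.germ W y (h1 hy) m = M.presheaf.germ W' y (h2 hy) m' := by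
  obtain ⟨O, hzO, i, j, e⟩ := M.presheaf.germ_eq z hz hz' m m' h
  refine ⟨O, hzO, i.le, j.le, fun y hy => ?_⟩
  rw [← M.presheaf.germ_res_apply i y hy m, e, M.presheaf.germ_res_apply j y hy m']

theorem isNoetherianRing_stalk' [IsLocallyNoetherian X] (x : X) : IsNoetherianRing (X.presheaf.stalk x) := by
  obtain ⟨_, ⟨U, hU, rfl⟩, hx, -⟩ :=
    X.isBasis_affineOpens.exists_subset_of_mem_open (Set.mem_univ x) isOpen_univ
  haveI := IsLocallyNoetherian.component_noetherian (X := X) ⟨U, hU⟩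
  letI := QCoh.stalkAlg (U := U) hx
  haveI := QCoh.isLocalization_stalk' (hU : IsAffineOpen U) hx
  exact IsLocalization.isNoetherianRing ((hU : IsAffineOpen U).primeIdealOf ⟨x, hx⟩).asIdeal.primeCompl _ inferInstance

/-- A germ which vanishes at the proper generalizations is killed by a power of the maximal ideal. -/
theorem mem_tors_of_zero [IsLocallyNoetherian X] {M : X.Modules} (hM : Coh.IsQCoh M) {V : X.Opens}
    (hV : IsAffineOpen V) {x : X} (hxV : x ∈ V) (e : Γ(M, V))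
    (he : ∀ z (hz : z ∈ V), z ⤳ x → z ≠ x → M.presheaf.germ V z hz e = 0) :
    M.presheaf.germ V x hxV e ∈ (tors (IsLocalRing.maximalIdeal (X.presheaf.stalk x)) :
      Submodule (X.presheaf.stalk x) (M.presheaf.stalk x)) := by
  haveI := isNoetherianRing_stalk' (X := X) x
  letI := QCoh.stalkAlg hxV
  haveI := QCoh.isLocalization_stalk' hV hxV
  let p := (hV.primeIdealOf ⟨x, hxV⟩).asIdeal
  let m := IsLocalRing.maximalIdeal (X.presheaf.stalk x)
  let Ann : Ideal (X.presheaf.stalk x) :=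
    LinearMap.ker (LinearMap.toSpanSingleton _ (M.presheaf.stalk x) (M.presheaf.germ V x hxV e))
  suffices hrad : m ≤ Ann.radical by
    obtain ⟨k, hk⟩ := Ideal.exists_pow_le_of_le_radical_of_fg hrad (IsNoetherian.noetherian m)
    exact (LC.mem_iSup_torsionBySet m _).2 ⟨k, fun r hr => hk hr⟩
  intro r hr
  rw [Ideal.radical_eq_sInf]
  refine Ideal.mem_sInf.2 fun {Q} hQQ => ?_
  obtain ⟨hQle, hQ⟩ := hQQ
  by_cases hQm : Q = m
  · exact hQm ▸ hr
  exfalso
  let q : PrimeSpectrum Γ(X, V) := ⟨Q.comap (algebraMap Γ(X, V) (X.presheaf.stalk x)), hQ.comap _⟩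
  have hle : q.asIdeal ≤ p := fun r hr' => by_contra fun hrp =>
    hQ.ne_top (Q.eq_top_of_isUnit_mem hr' (IsLocalization.map_units (X.presheaf.stalk x) (⟨r, hrp⟩ : p.primeCompl)))
  have hne : q.asIdeal ≠ p := fun h => hQm (by
    rw [← show q.asIdeal.map (algebraMap Γ(X, V) (X.presheaf.stalk x)) = Q from
      IsLocalization.map_comap p.primeCompl _ Q, h]
    exact IsLocalization.AtPrime.map_eq_maximalIdeal p (X.presheaf.stalk x))
  let z : X := hV.fromSpec.base q
  have hzV : z ∈ V := hV.range_fromSpec.le ⟨_, rfl⟩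
  have hzq : hV.primeIdealOf ⟨z, hzV⟩ = q :=
    hV.fromSpec.isOpenEmbedding.injective (hV.fromSpec_primeIdealOf ⟨z, hzV⟩)
  have hzx : z ⤳ x := by
    have h := Specializes.map ((PrimeSpectrum.le_iff_specializes q _).1 hle) hV.fromSpec.continuous
    rwa [hV.fromSpec_primeIdealOf] at h
  have hzne : z ≠ x := fun h => hne (by
    show q.asIdeal = (hV.primeIdealOf ⟨x, hxV⟩).asIdeal
    rw [← hzq]
    congr 2
    exact Subtype.ext h)
  obtain ⟨f, hzf, hf⟩ := (QCoh.germ_eq_zero_iff hM hV hzV e).1 (he z hzV hzx hzne)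
  refine (QCoh.mem_basicOpen_iff_notMem hV hzV f).1 hzf ?_
  rw [hzq]
  refine hQle ?_
  show X.presheaf.germ V x hxV f • M.presheaf.germ V x hxV e = 0
  rw [← QCoh.germ_smul', hf, map_zero]

/-- Spreading out a germ killed by a power of the maximal ideal. -/
theorem exists_spread_tors [IsLocallyNoetherian X] {M : X.Modules} {V : X.Opens} {x : X} (hxV : x ∈ V)
    (c : M.presheaf.stalk x)
    (hc : c ∈ (tors (IsLocalRing.maximalIdeal (X.presheaf.stalk x)) :
      Submodule (X.presheaf.stalk x) (M.presheaf.stalk x))) :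
    ∃ (E : X.Opens) (hxE : x ∈ E) (_ : E ≤ V) (e : Γ(M, E)), M.presheaf.germ E x hxE e = c ∧
      ∀ z (hz : z ∈ E), ¬ x ⤳ z → M.presheaf.germ E z hz e = 0 := by
  haveI := isNoetherianRing_stalk' (X := X) x
  obtain ⟨k, hk⟩ := (LC.mem_iSup_torsionBySet _ c).1 hc
  obtain ⟨W, hxW, e, rfl⟩ := TopCat.Presheaf.exists_germ_eq M.presheaf c
  obtain ⟨_, ⟨U, hU, rfl⟩, hxU, hUW⟩ :=
    X.isBasis_affineOpens.exists_subset_of_mem_open (show x ∈ (W ⊓ V : X.Opens) from ⟨hxW, hxV⟩) (W ⊓ V).2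
  have hU' : IsAffineOpen U := hU
  have hUW' : U ≤ W := fun z hz => (hUW hz).1
  haveI := IsLocallyNoetherian.component_noetherian (X := X) ⟨U, hU'⟩
  let P := (hU'.primeIdealOf ⟨x, hxU⟩).asIdeal
  obtain ⟨gens, hgens⟩ := IsNoetherian.noetherian P
  let eU : Γ(M, U) := M.presheaf.map (homOfLE hUW').op e
  have hkill : ∀ r : (gens : Set Γ(X, U)), ∃ (O : X.Opens) (_ : x ∈ O) (hO : O ≤ U), ∀ z (hz : z ∈ O),
      M.presheaf.germ U z (hO hz) (r.1 ^ k • eU) = 0 := fun r => by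
    obtain ⟨O, hxO, h1, _h2, heq⟩ := exists_germ_pair (M' := M) (hxU : x ∈ U) (hxU : x ∈ U) (r.1 ^ k • eU) 0 (by
      rw [QCoh.germ_smul', M.presheaf.germ_res_apply, map_zero, map_pow]
      refine hk _ (Ideal.pow_mem_pow ((X.mem_basicOpen _ x hxU).not.1 ?_) k)
      exact fun h => (QCoh.mem_basicOpen_iff_notMem hU' hxU r.1).1 h (show r.1 ∈ P by
        rw [← hgens]
        exact Submodule.subset_span r.2))
    exact ⟨O, hxO, h1, fun z hz => by rw [heq z hz, map_zero]⟩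
  choose O hxO hOU hO using hkill
  let E : X.Opens := (⟨⋂ r, (O r : Set X), isOpen_iInter_of_finite fun r => (O r).2⟩ : X.Opens) ⊓ U
  refine ⟨E, ⟨Set.mem_iInter.2 hxO, hxU⟩, (inf_le_right : E ≤ U).trans fun z hz => (hUW hz).2, M.presheaf.map (homOfLE ((inf_le_right : E ≤ U).trans hUW')).op e,
    M.presheaf.germ_res_apply _ _ _ _, fun z hz hnot => ?_⟩
  rw [M.presheaf.germ_res_apply]
  by_contra hne
  refine hnot ?_
  suffices hPz : P ≤ (hU'.primeIdealOf ⟨z, hz.2⟩).asIdeal by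
    have h := Specializes.map ((PrimeSpectrum.le_iff_specializes (hU'.primeIdealOf ⟨x, hxU⟩) (hU'.primeIdealOf ⟨z, hz.2⟩)).1 hPz)
      hU'.fromSpec.continuous
    rwa [hU'.fromSpec_primeIdealOf, hU'.fromSpec_primeIdealOf] at h
  rw [← hgens]
  refine Submodule.span_le.2 fun r hr => by_contra fun hnmem => hne ?_
  have h0 := hO ⟨r, hr⟩ z (Set.mem_iInter.1 hz.1 ⟨r, hr⟩)
  rw [QCoh.germ_smul', M.presheaf.germ_res_apply, map_pow] at h0
  exact (((X.mem_basicOpen r z hz.2).1 ((QCoh.mem_basicOpen_iff_notMem hU' hz.2 r).2 hnmem)).pow k).smul_eq_zero.1 h0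

/-- Near `x` membership in an ideal can be tested at `x`. -/
theorem exists_good_nbhd [IsLocallyNoetherian X] {V : X.Opens} (hV : IsAffineOpen V) {x : X} (hxV : x ∈ V)
    (K : Ideal Γ(X, V)) :
    ∃ h : Γ(X, V), x ∈ X.basicOpen h ∧ ∀ y (hy : y ∈ X.basicOpen h), x ⤳ y →
      ∀ (W : X.Opens) (hyW : y ∈ W) (hxW : x ∈ W) (a : Γ(X, W)), X.presheaf.germ W x hxW a ∈ K.map (X.presheaf.germ V x hxV).hom →
      X.presheaf.germ W y hyW a ∈ K.map (X.presheaf.germ V y (X.basicOpen_le h hy)).hom := by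
  classical
  haveI := IsLocallyNoetherian.component_noetherian (X := X) ⟨V, hV⟩
  let p := (hV.primeIdealOf ⟨x, hxV⟩).asIdeal
  have hfin := associatedPrimes.finite Γ(X, V) (Γ(X, V) ⧸ K)
  let S := hfin.toFinset.filter (fun Q => ¬ Q ≤ p)
  have hch : ∀ Q ∈ S, ∃ g, g ∈ Q ∧ g ∉ p := fun Q hQ => Set.not_subset.1 (Finset.mem_filter.1 hQ).2
  choose g hg1 hg2 using hch
  let h : Γ(X, V) := ∏ Q ∈ S.attach, g Q.1 Q.2
  have hp : h ∉ p := fun hh => by
    obtain ⟨Q, -, hQ⟩ := Ideal.IsPrime.prod_mem_iff.1 hh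
    exact hg2 _ _ hQ
  refine ⟨h, (QCoh.mem_basicOpen_iff_notMem hV hxV h).2 hp, fun y hy hxy W hyW hxW a ha => ?_⟩
  have hyV : y ∈ V := X.basicOpen_le h hy
  let q := (hV.primeIdealOf ⟨y, hyV⟩).asIdeal
  have hqh : h ∉ q := (QCoh.mem_basicOpen_iff_notMem hV hyV h).1 hy
  -- write the germ at `y` as a fraction
  letI := QCoh.stalkAlg hyV
  haveI := QCoh.isLocalization_stalk' hV hyV
  obtain ⟨⟨r, s⟩, hrs⟩ := IsLocalization.surj q.primeCompl (X.presheaf.germ W y hyW a)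
  suffices hr : ∃ w, w ∉ q ∧ w * r ∈ K by
    obtain ⟨w, hw, hwr⟩ := hr
    have h1 : algebraMap Γ(X, V) (X.presheaf.stalk y) (w * r) ∈ K.map (X.presheaf.germ V y hyV).hom :=
      Ideal.mem_map_of_mem _ hwr
    rw [map_mul] at h1
    rw [← (K.map (X.presheaf.germ V y hyV).hom).mul_unit_mem_iff_mem (IsLocalization.map_units _ s), hrs]
    exact ((K.map (X.presheaf.germ V y hyV).hom).unit_mul_mem_iff_mem
      (IsLocalization.map_units _ (⟨w, hw⟩ : q.primeCompl))).1 h1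
  by_contra hcon
  let M' : Submodule Γ(X, V) (Γ(X, V) ⧸ K) := Submodule.span _ {Ideal.Quotient.mk K r}
  have hann : ∀ w, w ∈ Module.annihilator Γ(X, V) M' ↔ w * r ∈ K := fun w => by
    rw [Submodule.mem_annihilator_span_singleton]
    exact Ideal.Quotient.eq_zero_iff_mem
  have hle : Module.annihilator Γ(X, V) M' ≤ q := fun w hw => by_contra fun hwq => hcon ⟨w, hwq, (hann w).1 hw⟩
  obtain ⟨Q, hQ, hQq⟩ := Ideal.exists_minimalPrimes_le hle
  haveI : Module.Finite Γ(X, V) M' := Module.Finite.span_of_finite _ (Set.finite_singleton _)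
  have hQass : Q ∈ associatedPrimes Γ(X, V) (Γ(X, V) ⧸ K) :=
    associatedPrimes.subset_of_injective M'.injective_subtype
      (Module.associatedPrimes.minimalPrimes_annihilator_subset_associatedPrimes Γ(X, V) M' hQ)
  have hQp : Q ≤ p := by_contra fun hnot => hqh (hQq (Ideal.prod_mem Q
    (Finset.mem_attach S ⟨Q, Finset.mem_filter.2 ⟨hfin.mem_toFinset.2 hQass, hnot⟩⟩) (hg1 _ _)))
  -- compare at `x`
  obtain ⟨O₁, hyO₁, i₁, j₁, e₁⟩ := X.presheaf.germ_eq y (show y ∈ W ⊓ V from ⟨hyW, hyV⟩) hyV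
    (X.presheaf.map (homOfLE inf_le_left).op a * X.presheaf.map (homOfLE inf_le_right).op s.1) r (by
      rw [map_mul, X.presheaf.germ_res_apply, X.presheaf.germ_res_apply]
      exact hrs)
  have hxO₁ : x ∈ O₁ := hxy.mem_open O₁.2 hyO₁
  letI := QCoh.stalkAlg hxV
  haveI := QCoh.isLocalization_stalk' hV hxV
  have he := congrArg (X.presheaf.germ O₁ x hxO₁) e₁
  rw [X.presheaf.germ_res_apply, X.presheaf.germ_res_apply, map_mul, X.presheaf.germ_res_apply,
    X.presheaf.germ_res_apply] at he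
  have hrx : algebraMap Γ(X, V) (X.presheaf.stalk x) r ∈ K.map (algebraMap Γ(X, V) (X.presheaf.stalk x)) := by
    show X.presheaf.germ V x hxV r ∈ _
    rw [← he]
    exact Ideal.mul_mem_right _ _ ha
  obtain ⟨⟨k, u⟩, hku⟩ := (IsLocalization.mem_map_algebraMap_iff p.primeCompl _).1 hrx
  rw [← map_mul] at hku
  obtain ⟨v, hv⟩ := (IsLocalization.eq_iff_exists p.primeCompl _).1 hku
  have hmem : (v.1 * u.1) ∈ Module.annihilator Γ(X, V) M' := (hann _).2 (by
    rw [mul_assoc, mul_comm u.1 r, hv]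
    exact K.mul_mem_left _ k.2)
  exact (v * u : p.primeCompl).2 (hQp (hQ.1.2 hmem))

section Step

variable [IsLocallyNoetherian X] (hI : Coh.IsQCoh I)
  (hinj : ∀ x : X, ∃ U : X.Opens, IsAffineOpen U ∧ x ∈ U ∧ Module.Injective Γ(X, U) Γ(I, U))
  {G : Gr N I} (hG : IsGr G)
include hI hinj hG

/-- The coefficient ideal of a section at a point. -/
def coef (G : Gr N I) {U : X.Opens} (n : Γ(N, U)) (y : X) (hy : y ∈ U) : Ideal (X.presheaf.stalk y) where
  carrier := {a | ∃ b, (a • N.presheaf.germ U y hy n, b) ∈ G y}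
  add_mem' := fun {a a'} ⟨b, hb⟩ ⟨b', hb'⟩ => ⟨b + b', by
    rw [add_smul]
    exact add_mem hb hb'⟩
  zero_mem' := ⟨0, by rw [zero_smul]; exact zero_mem _⟩
  smul_mem' := fun c a ⟨b, hb⟩ => ⟨c • b, by
    rw [smul_eq_mul, mul_smul]
    exact Submodule.smul_mem _ c hb⟩

/-- A graph which is not total can be enlarged. -/
theorem exists_enlarge (y₀ : X) (a₀ : N.presheaf.stalk y₀) (ha₀ : ∀ b, (a₀, b) ∉ G y₀) :
    ∃ G' : Gr N I, IsGr G' ∧ G ≤ G' ∧ ¬ G' ≤ G := by
  classical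
  obtain ⟨W₀, hyW₀, n₀, rfl⟩ := TopCat.Presheaf.exists_germ_eq N.presheaf a₀
  obtain ⟨U₀, hU₀, hyU₀, hUW, -⟩ := exists_affine_injective_le hI hinj hyW₀
  haveI := IsLocallyNoetherian.component_noetherian (X := X) ⟨U₀, hU₀⟩
  -- the locus where the section is not in the domain
  let good : X.Opens :=
    ⟨{z | ∃ (hz : z ∈ U₀) (b : _), (N.presheaf.germ W₀ z (hUW hz) n₀, b) ∈ G z}, isOpen_iff_forall_mem_open.2 fun z hz => by
      obtain ⟨hz, b, hb⟩ := hz
      obtain ⟨W, hzW, n, s, he, hall⟩ := hG.isOpen z _ hb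
      obtain ⟨O, hzO, h1, h2, heq⟩ := exists_germ_pair (M' := I) hzW (hUW hz) n n₀ (congrArg Prod.fst he)
      refine ⟨(O ⊓ U₀ : X.Opens), fun w hw => ⟨hw.2, I.presheaf.germ W w (h1 hw.1) s, ?_⟩, (O ⊓ U₀).2, hzO, hz⟩
      rw [← heq w hw.1]
      exact hall w (h1 hw.1)⟩
  have hnotgood : y₀ ∉ good := fun ⟨_, b, hb⟩ => ha₀ b hb
  -- a generic point of that locus
  have hcl : IsClosed (hU₀.fromSpec.base ⁻¹' (good : Set X)ᶜ) := good.2.isClosed_compl.preimage hU₀.fromSpec.continuous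
  obtain ⟨a, ha⟩ := (PrimeSpectrum.isClosed_iff_zeroLocus_ideal _).1 hcl
  have hne : a ≤ (hU₀.primeIdealOf ⟨y₀, hyU₀⟩).asIdeal := by
    have h1 : hU₀.primeIdealOf ⟨y₀, hyU₀⟩ ∈ (hU₀.fromSpec.base ⁻¹' (good : Set X)ᶜ) := by
      show hU₀.fromSpec.base (hU₀.primeIdealOf ⟨y₀, hyU₀⟩) ∈ (good : Set X)ᶜ
      rw [hU₀.fromSpec_primeIdealOf]
      exact hnotgood
    exact (PrimeSpectrum.mem_zeroLocus _ _).1 ((Set.ext_iff.1 ha _).1 h1)
  obtain ⟨P, hP, -⟩ := Ideal.exists_minimalPrimes_le hne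
  let x : X := hU₀.fromSpec.base ⟨P, hP.1.1⟩
  have hxU₀ : x ∈ U₀ := hU₀.range_fromSpec.le ⟨_, rfl⟩
  have hxgood : x ∉ good := (Set.ext_iff.1 ha ⟨P, hP.1.1⟩).2 ((PrimeSpectrum.mem_zeroLocus _ _).2 hP.1.2)
  have hxP : hU₀.primeIdealOf ⟨x, hxU₀⟩ = ⟨P, hP.1.1⟩ :=
    hU₀.fromSpec.isOpenEmbedding.injective (hU₀.fromSpec_primeIdealOf ⟨x, hxU₀⟩)
  obtain ⟨g, hgP, hg⟩ : ∃ g, g ∉ P ∧ ∀ Q ∈ a.minimalPrimes, Q ≠ P → g ∈ Q := by
    have hfin := Ideal.finite_minimalPrimes_of_isNoetherianRing Γ(X, U₀) a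
    have hk : ∀ Q ∈ a.minimalPrimes, Q ≠ P → ∃ g, g ∈ Q ∧ g ∉ P := fun Q hQ hne' =>
      Set.not_subset.1 fun hle => hne' (le_antisymm hle (hP.2 hQ.1 hle))
    choose k hk1 hk2 using hk
    haveI := hP.1.1
    refine ⟨∏ Q ∈ hfin.toFinset.attach.filter (fun Q => Q.1 ≠ P),
      if h : Q.1 ≠ P then k Q.1 (hfin.mem_toFinset.1 Q.2) h else 1, fun hmem => ?_, fun Q hQ hne' => ?_⟩
    · obtain ⟨Q, hQ, hQP⟩ := Ideal.IsPrime.prod_mem_iff.1 hmem
      rw [dif_pos (Finset.mem_filter.1 hQ).2] at hQP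
      exact hk2 _ _ _ hQP
    · have hmem : (⟨Q, hfin.mem_toFinset.2 hQ⟩ : {Q // Q ∈ hfin.toFinset}) ∈
          hfin.toFinset.attach.filter (fun Q => Q.1 ≠ P) :=
        Finset.mem_filter.2 ⟨Finset.mem_attach _ _, hne'⟩
      refine Ideal.prod_mem Q hmem ?_
      rw [dif_pos hne']
      exact hk1 Q hQ hne'
  have hxg : x ∈ X.basicOpen g := (QCoh.mem_basicOpen_iff_notMem hU₀ hxU₀ g).2 (by rw [hxP]; exact hgP)
  have hspec : ∀ z ∈ X.basicOpen g, z ∉ good → x ⤳ z := fun z hz hzg => by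
    have hzU : z ∈ U₀ := X.basicOpen_le g hz
    have h1 : a ≤ (hU₀.primeIdealOf ⟨z, hzU⟩).asIdeal := by
      refine (PrimeSpectrum.mem_zeroLocus _ _).1 ((Set.ext_iff.1 ha _).1 ?_)
      show hU₀.fromSpec.base (hU₀.primeIdealOf ⟨z, hzU⟩) ∈ (good : Set X)ᶜ
      rw [hU₀.fromSpec_primeIdealOf]
      exact hzg
    obtain ⟨Q, hQ, hQz⟩ := Ideal.exists_minimalPrimes_le h1
    have hQP : Q = P := by_contra fun hne' =>
      (QCoh.mem_basicOpen_iff_notMem hU₀ hzU g).1 hz (hQz (hg Q hQ hne'))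
    have h := Specializes.map ((PrimeSpectrum.le_iff_specializes ⟨P, hP.1.1⟩ (hU₀.primeIdealOf ⟨z, hzU⟩)).1 (hQP ▸ hQz))
      hU₀.fromSpec.continuous
    rwa [hU₀.fromSpec_primeIdealOf] at h
  -- a small affine neighbourhood
  obtain ⟨V, hV, hxV, hVle, hE⟩ := exists_affine_injective_le hI hinj hxg
  haveI := IsLocallyNoetherian.component_noetherian (X := X) ⟨V, hV⟩
  haveI := hE
  have hVU : V ≤ U₀ := hVle.trans (X.basicOpen_le g)
  have hVW : V ≤ W₀ := hVU.trans hUW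
  let nz : ∀ z, z ∈ V → N.presheaf.stalk z := fun z hz => N.presheaf.germ W₀ z (hVW hz) n₀
  -- the values off the locus
  have hv : ∀ z, z ∈ V ⊓ good → ∃ b, ∀ hz : z ∈ V, (nz z hz, b) ∈ G z := fun z hz => by
    obtain ⟨_, b, hb⟩ := (hz : z ∈ V ∧ z ∈ good).2
    exact ⟨b, fun _ => hb⟩
  choose v hv using hv
  obtain ⟨t, ht⟩ := exists_section (I := I) (V ⊓ good) v fun z hz => by
    obtain ⟨W, hzW, n, s, he, hall⟩ := hG.isOpen z _ (hv z hz hz.1)
    obtain ⟨O, hzO, h1, h2, heq⟩ := exists_germ_pair (M' := I) hzW (hVW hz.1) n n₀ (congrArg Prod.fst he)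
    refine ⟨O, hzO, I.presheaf.map (homOfLE h1).op s, fun y hyO hy => ?_⟩
    rw [I.presheaf.germ_res_apply]
    refine hG.eq_of_mem (hall y (h1 hyO)) ?_
    rw [heq y hyO]
    exact hv y hy hy.1
  obtain ⟨t', ht'⟩ := exists_extend hI hV (inf_le_left : V ⊓ good ≤ V) t
  let tz : ∀ z, z ∈ V → I.presheaf.stalk z := fun z hz => I.presheaf.germ V z hz t'
  have htgood : ∀ z (hz : z ∈ V), z ∈ good → (nz z hz, tz z hz) ∈ G z := fun z hz hzg => by
    have h := hv z ⟨hz, hzg⟩ hz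
    rw [← ht z ⟨hz, hzg⟩, ← ht', I.presheaf.germ_res_apply] at h
    exact h
  -- pairs (coefficient, correction) near a point
  let Good : ∀ z, z ∈ V → X.presheaf.stalk z → I.presheaf.stalk z → Prop :=
    fun z hz a c => (a • nz z hz, a • tz z hz + c) ∈ G z
  have hGood_open : ∀ z (hz : z ∈ V) a c, Good z hz a c → ∃ (W : X.Opens) (hzW : z ∈ W) (hW : W ≤ V)
      (α : Γ(X, W)) (γ : Γ(I, W)), X.presheaf.germ W z hzW α = a ∧ I.presheaf.germ W z hzW γ = c ∧
      ∀ y (hy : y ∈ W), Good y (hW hy) (X.presheaf.germ W y hy α) (I.presheaf.germ W y hy γ) := fun z hz a c h => by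
    obtain ⟨W, hzW, n, s, he, hall⟩ := hG.isOpen z _ h
    obtain ⟨W₁, hzW₁, α, rfl⟩ := TopCat.Presheaf.exists_germ_eq X.presheaf a
    let O₁ : X.Opens := W₁ ⊓ V
    have hzO₁ : z ∈ O₁ := ⟨hzW₁, hz⟩
    let α₁ : Γ(X, O₁) := X.presheaf.map (homOfLE inf_le_left).op α
    let m : Γ(N, O₁) := α₁ • N.presheaf.map (homOfLE (inf_le_right.trans hVW)).op n₀
    have hm : ∀ y (hy : y ∈ O₁), N.presheaf.germ O₁ y hy m = X.presheaf.germ O₁ y hy α₁ • nz y hy.2 := fun y hy => by
      rw [QCoh.germ_smul', N.presheaf.germ_res_apply]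
    obtain ⟨O, hzO, h1, h2, heq⟩ := exists_germ_pair (M' := I) hzW hzO₁ n m (by
      rw [hm z hzO₁, X.presheaf.germ_res_apply]
      exact congrArg Prod.fst he)
    let γ : Γ(I, O) := I.presheaf.map (homOfLE h1).op s -
      X.presheaf.map (homOfLE h2).op α₁ • I.presheaf.map (homOfLE (h2.trans inf_le_right)).op t'
    have hγ : ∀ y (hy : y ∈ O), I.presheaf.germ O y hy γ =
        I.presheaf.germ W y (h1 hy) s - X.presheaf.germ O₁ y (h2 hy) α₁ • tz y (h2 hy).2 := fun y hy => by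
      rw [map_sub, QCoh.germ_smul', I.presheaf.germ_res_apply, I.presheaf.germ_res_apply, X.presheaf.germ_res_apply]
    refine ⟨O, hzO, h2.trans inf_le_right, X.presheaf.map (homOfLE h2).op α₁, γ, ?_, ?_, fun y hy => ?_⟩
    · rw [X.presheaf.germ_res_apply, X.presheaf.germ_res_apply]
    · rw [hγ z hzO, X.presheaf.germ_res_apply]
      have hs' : I.presheaf.germ W z hzW s = X.presheaf.germ W₁ z hzW₁ α • tz z hz + c := congrArg Prod.snd he
      rw [hs']
      exact add_sub_cancel_left _ _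
    · show (_ • nz y (h2 hy).2, _ • tz y (h2 hy).2 + _) ∈ G y
      rw [hγ y hy, X.presheaf.germ_res_apply, add_sub_cancel, ← hm y (h2 hy), ← heq y hy]
      exact hall y (h1 hy)
  have hGood_unique : ∀ z (hz : z ∈ V) a c c', Good z hz a c → Good z hz a c' → c = c' :=
    fun z hz a c c' h h' => add_left_cancel (hG.eq_of_mem h h')
  have hGood_smul : ∀ z (hz : z ∈ V) r a c, Good z hz a c → Good z hz (r * a) (r • c) := fun z hz r a c h => by
    show ((r * a) • nz z hz, (r * a) • tz z hz + r • c) ∈ G z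
    rw [mul_smul, mul_smul, ← smul_add]
    exact Submodule.smul_mem _ r h
  have hGood_add : ∀ z (hz : z ∈ V) a c a' c', Good z hz a c → Good z hz a' c' → Good z hz (a + a') (c + c') :=
    fun z hz a c a' c' h h' => by
    show ((a + a') • nz z hz, (a + a') • tz z hz + (c + c')) ∈ G z
    rw [add_smul, add_smul, add_add_add_comm]
    exact add_mem h h'
  have hGood_zero : ∀ z (hz : z ∈ V), z ∈ good → ∀ a c, Good z hz a c → c = 0 := fun z hz hzg a c h => by
    refine hGood_unique z hz a c 0 h ?_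
    show (a • nz z hz, a • tz z hz + 0) ∈ G z
    rw [add_zero]
    exact Submodule.smul_mem _ a (htgood z hz hzg)
  -- at the generic point
  let p := (hV.primeIdealOf ⟨x, hxV⟩).asIdeal
  haveI := isNoetherianRing_stalk' (X := X) x
  haveI := injective_stalk hI hV hxV
  let Tx : Submodule (X.presheaf.stalk x) (I.presheaf.stalk x) := tors (IsLocalRing.maximalIdeal (X.presheaf.stalk x))
  haveI := LC.injective_torsion (I := I.presheaf.stalk x) (IsLocalRing.maximalIdeal (X.presheaf.stalk x))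
  have hgen_good : ∀ z ∈ V, z ⤳ x → z ≠ x → z ∈ good := fun z hz hzx hne' => by_contra fun h =>
    hne' ((hzx.antisymm (hspec z (hVle hz) h)).eq)
  have hGood_tors : ∀ a c, Good x hxV a c → c ∈ Tx := fun a c h => by
    obtain ⟨W, hxW, hW, α, γ, -, rfl, hall⟩ := hGood_open x hxV a c h
    obtain ⟨V', hV', hxV', hV'W, -⟩ := exists_affine_injective_le hI hinj hxW
    rw [← I.presheaf.germ_res_apply (homOfLE hV'W) x hxV' γ]
    refine mem_tors_of_zero hI hV' hxV' _ fun z hz hzx hne' => ?_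
    rw [I.presheaf.germ_res_apply]
    exact hGood_zero z (hW (hV'W hz)) (hgen_good z (hW (hV'W hz)) hzx hne') _ _ (hall z (hV'W hz))
  let Jx : Ideal (X.presheaf.stalk x) :=
    { carrier := {a | ∃ c, Good x hxV a c}
      add_mem' := fun {a a'} ⟨c, hc⟩ ⟨c', hc'⟩ => ⟨c + c', hGood_add x hxV a c a' c' hc hc'⟩
      zero_mem' := ⟨0, by
        show ((0 : X.presheaf.stalk x) • nz x hxV, _) ∈ G x
        rw [zero_smul, zero_smul, add_zero]
        exact zero_mem _⟩
      smul_mem' := fun r a ⟨c, hc⟩ => ⟨r • c, hGood_smul x hxV r a c hc⟩ }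
  have hJ' : ∀ a : Jx, ∃ c, Good x hxV a c := fun a => a.2
  choose ψ hψ using hJ'
  let ψl : Jx →ₗ[X.presheaf.stalk x] ↥Tx :=
    { toFun := fun a => ⟨ψ a, hGood_tors _ _ (hψ a)⟩
      map_add' := fun a b => Subtype.ext
        (hGood_unique x hxV _ _ _ (hψ (a + b)) (hGood_add x hxV _ _ _ _ (hψ a) (hψ b)))
      map_smul' := fun r a => Subtype.ext (hGood_unique x hxV _ _ _ (hψ (r • a)) (hGood_smul x hxV r _ _ (hψ a))) }
  obtain ⟨ex, hex⟩ := LC.exists_extension Jx.subtype Subtype.val_injective ψl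
  -- spread out the correction
  obtain ⟨E₁, hxE₁, hE₁V, e, he, hegood⟩ := exists_spread_tors hxV (ex 1).1 (ex 1).2
  -- spread out generators of the coefficient ideal
  obtain ⟨gens, hgens⟩ := IsNoetherian.noetherian Jx
  have hgmem : ∀ b : (gens : Set (X.presheaf.stalk x)), b.1 ∈ Jx := fun b => hgens ▸ Submodule.subset_span b.2
  have hsp : ∀ b : (gens : Set (X.presheaf.stalk x)), ∃ (O : X.Opens) (_ : x ∈ O) (α : Γ(X, O)),
      (∀ (hx : x ∈ O), X.presheaf.germ O x hx α = b.1) ∧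
      ∀ y (hy : y ∈ O) (hyE : y ∈ E₁), Good y (hE₁V hyE) (X.presheaf.germ O y hy α)
        (X.presheaf.germ O y hy α • I.presheaf.germ E₁ y hyE e) := fun b => by
    obtain ⟨W, hxW, hW, α, γ, hα, hγ, hall⟩ := hGood_open x hxV b.1 _ (hψ ⟨b.1, hgmem b⟩)
    let W' : X.Opens := W ⊓ E₁
    let γ' : Γ(I, W') := X.presheaf.map (homOfLE (inf_le_left : W' ≤ W)).op α •
      I.presheaf.map (homOfLE (inf_le_right : W' ≤ E₁)).op e
    obtain ⟨O, hxO, h1, h2, heq⟩ := exists_germ_pair (M' := I) hxW (show x ∈ W' from ⟨hxW, hxE₁⟩) γ γ' (by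
      rw [QCoh.germ_smul', I.presheaf.germ_res_apply, X.presheaf.germ_res_apply, he, hα, hγ]
      have h3 := congrArg Subtype.val (LinearMap.congr_fun hex ⟨b.1, hgmem b⟩)
      have h4 : ex b.1 = b.1 • ex 1 := by rw [← map_smul, smul_eq_mul, mul_one]
      exact h3.symm.trans (congrArg Subtype.val h4))
    refine ⟨O, hxO, X.presheaf.map (homOfLE h1).op α, fun _ => by rw [X.presheaf.germ_res_apply, hα],
      fun y hy hyE => ?_⟩
    have h4 := hall y (h1 hy)
    rw [heq y hy, QCoh.germ_smul', I.presheaf.germ_res_apply, X.presheaf.germ_res_apply] at h4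
    rw [X.presheaf.germ_res_apply]
    exact h4
  choose Ob hxOb α hαx hαall using hsp
  obtain ⟨V₂, hV₂, hxV₂, hV₂le, -⟩ := exists_affine_injective_le hI hinj
    (O := (⟨⋂ b, (Ob b : Set X), isOpen_iInter_of_finite fun b => (Ob b).2⟩ : X.Opens) ⊓ E₁)
    (x := x) ⟨Set.mem_iInter.2 hxOb, hxE₁⟩
  have hV₂b : ∀ b, V₂ ≤ Ob b := fun b z hz => Set.mem_iInter.1 (hV₂le hz).1 b
  haveI := IsLocallyNoetherian.component_noetherian (X := X) ⟨V₂, hV₂⟩
  let K : Ideal Γ(X, V₂) := Ideal.span (Set.range fun b => X.presheaf.map (homOfLE (hV₂b b)).op (α b))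
  obtain ⟨h₀, hxh₀, hh₀⟩ := exists_good_nbhd hV₂ hxV₂ K
  let O : X.Opens := X.basicOpen h₀
  have hOV₂ : O ≤ V₂ := X.basicOpen_le h₀
  have hOE : O ≤ E₁ := hOV₂.trans (hV₂le.trans inf_le_right)
  have hOV : O ≤ V := hOE.trans hE₁V
  -- agreement near `x`
  have hKgood : ∀ y (hy : y ∈ V₂), ∀ r ∈ K.map (X.presheaf.germ V₂ y hy).hom,
      Good y (hE₁V (hV₂le hy).2) r (r • I.presheaf.germ E₁ y (hV₂le hy).2 e) := fun y hy r hr => by
    rw [Ideal.map_span] at hr
    induction hr using Submodule.span_induction with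
    | mem z hz =>
      obtain ⟨_, ⟨b, rfl⟩, rfl⟩ := hz
      have h5 := hαall b y (hV₂b b hy) (hV₂le hy).2
      rwa [← X.presheaf.germ_res_apply (homOfLE (hV₂b b)) y hy (α b)] at h5
    | zero =>
      show ((0 : X.presheaf.stalk y) • nz y (hE₁V (hV₂le hy).2), _) ∈ G y
      rw [zero_smul, zero_smul, zero_smul, add_zero]
      exact zero_mem _
    | add a b _ _ ha hb =>
      rw [add_smul]
      exact hGood_add y _ _ _ _ _ ha hb
    | smul c a _ ha =>
      rw [smul_eq_mul, mul_smul]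
      exact hGood_smul y _ c _ _ ha
  have hkey : ∀ y (hy : y ∈ O), ∀ a c, Good y (hOV hy) a c → c = a • I.presheaf.germ E₁ y (hOE hy) e := by
    intro y hy a c h
    by_cases hyg : y ∈ good
    · rw [hGood_zero y (hOV hy) hyg a c h, hegood y (hOE hy) (fun hxy => hxgood (hxy.mem_open good.2 hyg)), smul_zero]
    have hxy : x ⤳ y := hspec y (hVle (hOV hy)) hyg
    obtain ⟨W, hyW, hW, α', γ', rfl, rfl, hall⟩ := hGood_open y (hOV hy) a c h
    have hxW : x ∈ W := hxy.mem_open W.2 hyW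
    refine hGood_unique y (hOV hy) _ _ _ h (hKgood y (hOV₂ hy) _ ?_)
    refine hh₀ y hy hxy W hyW hxW α' ?_
    have h6 : X.presheaf.germ W x hxW α' ∈ Jx := ⟨_, hall x hxW⟩
    rw [← hgens] at h6
    refine Submodule.span_le.2 (fun b hb => ?_) h6
    show b ∈ K.map (X.presheaf.germ V₂ x hxV₂).hom
    rw [show b = _ from (hαx ⟨b, hb⟩ (hxOb _)).symm, ← X.presheaf.germ_res_apply (homOfLE (hV₂b ⟨b, hb⟩)) x hxV₂ (α ⟨b, hb⟩)]
    exact Ideal.mem_map_of_mem _ (Ideal.subset_span ⟨⟨b, hb⟩, rfl⟩)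
  -- the enlarged graph
  let w : ∀ y, y ∈ O → N.presheaf.stalk y × I.presheaf.stalk y := fun y hy =>
    (nz y (hOV hy), tz y (hOV hy) + I.presheaf.germ E₁ y (hOE hy) e)
  let G' : Gr N I := fun y => if hy : y ∈ O then G y ⊔ Submodule.span _ {w y hy} else G y
  have hle : G ≤ G' := fun y => by
    simp only [G']
    split_ifs
    · exact le_sup_left
    · exact le_rfl
  refine ⟨G', ⟨fun y q hq => ?_, fun y b hb => ?_⟩, hle, fun hGG => ?_⟩
  · by_cases hy : y ∈ O
    · simp only [G', dif_pos hy] at hq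
      obtain ⟨q₀, hq₀, q₁, hq₁, rfl⟩ := Submodule.mem_sup.1 hq
      obtain ⟨r, rfl⟩ := Submodule.mem_span_singleton.1 hq₁
      obtain ⟨W, hyW, n, s, he', hall⟩ := hG.isOpen y q₀ hq₀
      obtain ⟨W₁, hyW₁, ρ, rfl⟩ := TopCat.Presheaf.exists_germ_eq X.presheaf r
      let O' : X.Opens := W ⊓ W₁ ⊓ O
      have hyO' : y ∈ O' := ⟨⟨hyW, hyW₁⟩, hy⟩
      have hO'W : O' ≤ W := inf_le_left.trans inf_le_left
      have hO'W₁ : O' ≤ W₁ := inf_le_left.trans inf_le_right
      have hO'O : O' ≤ O := inf_le_right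
      let ρ' : Γ(X, O') := X.presheaf.map (homOfLE hO'W₁).op ρ
      have key : ∀ z (hz : z ∈ O'),
          gp N I z hz (N.presheaf.map (homOfLE hO'W).op n + ρ' • N.presheaf.map (homOfLE ((hO'O.trans hOV).trans hVW)).op n₀)
            (I.presheaf.map (homOfLE hO'W).op s + ρ' • (I.presheaf.map (homOfLE (hO'O.trans hOV)).op t' +
              I.presheaf.map (homOfLE (hO'O.trans hOE)).op e)) =
            gp N I z (hO'W hz) n s + X.presheaf.germ W₁ z (hO'W₁ hz) ρ • w z (hO'O hz) := fun z hz => by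
        refine Prod.ext ?_ ?_
        · simp only [gp, Prod.fst_add, Prod.smul_fst, map_add, QCoh.germ_smul', TopCat.Presheaf.germ_res_apply, w, ρ', nz]
        · simp only [gp, Prod.snd_add, Prod.smul_snd, map_add, QCoh.germ_smul', TopCat.Presheaf.germ_res_apply, w, ρ', tz]
      refine ⟨O', hyO',
        N.presheaf.map (homOfLE hO'W).op n + ρ' • N.presheaf.map (homOfLE ((hO'O.trans hOV).trans hVW)).op n₀,
        I.presheaf.map (homOfLE hO'W).op s + ρ' • (I.presheaf.map (homOfLE (hO'O.trans hOV)).op t' +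
          I.presheaf.map (homOfLE (hO'O.trans hOE)).op e), ?_, fun z hz => ?_⟩
      · rw [key y hyO', he']
      · simp only [G', dif_pos (hO'O hz)]
        rw [key z hz]
        exact add_mem (Submodule.mem_sup_left (hall z (hO'W hz)))
          (Submodule.mem_sup_right (Submodule.smul_mem _ _ (Submodule.mem_span_singleton_self _)))
    · simp only [G', dif_neg hy] at hq
      obtain ⟨W, hyW, n, s, he', hall⟩ := hG.isOpen y q hq
      exact ⟨W, hyW, n, s, he', fun z hz => hle z (hall z hz)⟩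
  · by_cases hy : y ∈ O
    · simp only [G', dif_pos hy] at hb
      obtain ⟨q₀, hq₀, q₁, hq₁, heq⟩ := Submodule.mem_sup.1 hb
      obtain ⟨r, rfl⟩ := Submodule.mem_span_singleton.1 hq₁
      have hneg : q₀.1 = (-r) • nz y (hOV hy) := by
        rw [neg_smul]
        exact eq_neg_of_add_eq_zero_left (congrArg Prod.fst heq)
      have hgd : Good y (hOV hy) (-r) (q₀.2 - (-r) • tz y (hOV hy)) := by
        show ((-r) • nz y (hOV hy), (-r) • tz y (hOV hy) + _) ∈ G y
        rw [add_sub_cancel, ← hneg]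
        exact hq₀
      have h7 := hkey y hy _ _ hgd
      have h9 : q₀.2 + r • (tz y (hOV hy) + I.presheaf.germ E₁ y (hOE hy) e) = b := congrArg Prod.snd heq
      rw [← h9]
      rw [sub_eq_iff_eq_add.1 h7]
      simp only [neg_smul, smul_add]
      abel
    · simp only [G', dif_neg hy] at hb
      exact hG.unique y b hb
  · have hxO : x ∈ O := hxh₀
    have h8 : w x hxO ∈ G' x := by
      simp only [G', dif_pos hxO]
      exact Submodule.mem_sup_right (Submodule.mem_span_singleton_self _)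
    exact hxgood ⟨hxU₀, _, hGG x h8⟩

end Step

end Groth.Agent.VBPnX.InjSlim
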