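import Groth.Agent.VBPnX.InjSlim.Injective

/-!
# Injectivity of quasi-coherent modules with injective sections on affine opens
-/

set_option autoImplicit false
set_option linter.style.haveILetI false
set_option backward.isDefEq.respectTransparency false
set_option backward.isDefEq.respectTransparency.types false

universe u

open CategoryTheory AlgebraicGeometry Opposite TopologicalSpace

namespace Groth.Agent.VBPnX.InjSlim

variable {X : Scheme.{u}}

theorem app_map {M N : X.Modules} (f : M ⟶ N) {U V : X.Opens} (i : V ⟶ U) (m : Γ(M, U)) :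
    f.app V (M.presheaf.map i.op m) = N.presheaf.map i.op (f.app U m) :=
  ConcreteCategory.congr_hom (((Scheme.Modules.toPresheaf X).map f).naturality i.op) m

/-- The graph of a morphism given on a submodule. -/
noncomputable def graph {M N I : X.Modules} (f : M ⟶ N) (φ : M ⟶ I) : Gr N I := fun y =>
  { carrier := {p | ∃ (W : X.Opens) (hy : y ∈ W) (m : Γ(M, W)), gp N I y hy (f.app W m) (φ.app W m) = p}
    add_mem' := fun {p q} hp hq => by
      obtain ⟨W, hy, m, rfl⟩ := hp
      obtain ⟨W', hy', m', rfl⟩ := hq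
      refine ⟨W ⊓ W', ⟨hy, hy'⟩, M.presheaf.map (homOfLE inf_le_left).op m + M.presheaf.map (homOfLE inf_le_right).op m', ?_⟩
      refine Prod.ext ?_ ?_ <;>
        · simp only [gp, map_add, Prod.fst_add, Prod.snd_add]
          congr 1 <;>
          · rw [app_map, TopCat.Presheaf.germ_res_apply]
    zero_mem' := ⟨⊤, trivial, 0, by simp [gp]⟩
    smul_mem' := fun r p hp => by
      obtain ⟨W, hy, m, rfl⟩ := hp
      obtain ⟨W', hy', ρ, rfl⟩ := TopCat.Presheaf.exists_germ_eq X.presheaf r
      refine ⟨W ⊓ W', ⟨hy, hy'⟩, X.presheaf.map (homOfLE (inf_le_right : W ⊓ W' ≤ W')).op ρ • M.presheaf.map (homOfLE (inf_le_left : W ⊓ W' ≤ W)).op m, ?_⟩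
      refine Prod.ext ?_ ?_ <;>
        · simp only [gp, Prod.smul_fst, Prod.smul_snd, Scheme.Modules.Hom.app_smul, QCoh.germ_smul']
          congr 1
          · exact TopCat.Presheaf.germ_res_apply X.presheaf _ _ _ _
          · rw [app_map, TopCat.Presheaf.germ_res_apply] }

theorem isGr_graph {M N I : X.Modules} (f : M ⟶ N) [Mono f] (φ : M ⟶ I) : IsGr (graph f φ) where
  isOpen y p hp := by
    obtain ⟨W, hy, m, rfl⟩ := hp
    exact ⟨W, hy, f.app W m, φ.app W m, rfl, fun z hz => ⟨W, hz, m, rfl⟩⟩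
  unique y b hb := by
    obtain ⟨W, hy, m, hm⟩ := hb
    obtain ⟨O, hyO, i, j, e⟩ := N.presheaf.germ_eq y hy hy (f.app W m) 0 ((congrArg Prod.fst hm).trans (map_zero _).symm)
    have h0 : M.presheaf.map i.op m = 0 := by
      apply QCoh.app_injective f O
      rw [app_map, e, map_zero, map_zero]
    refine (congrArg Prod.snd hm).symm.trans ?_
    show I.presheaf.germ W y hy (φ.app W m) = 0
    rw [← TopCat.Presheaf.germ_res_apply I.presheaf i y hyO, ← app_map, h0, map_zero, map_zero]

/-- **Hartshorne II.7.17.** A quasi-coherent module on a locally Noetherian scheme with injective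
modules of sections on affine neighbourhoods of all points is an injective `O_X`-module. -/
theorem injective_of_affine [IsLocallyNoetherian X] (I : X.Modules) (hI : Coh.IsQCoh I)
    (hinj : ∀ x : X, ∃ U : X.Opens, IsAffineOpen U ∧ x ∈ U ∧ Module.Injective Γ(X, U) Γ(I, U)) :
    Injective I := by
  refine ⟨fun {M N} φ f _ => ?_⟩
  let S : Set (Gr N I) := {G | IsGr G ∧ graph f φ ≤ G}
  obtain ⟨G, hle, ⟨hG, hG0⟩, hmax⟩ := zorn_le_nonempty₀ S (fun c hc hchain G₁ hG₁ => by
    let T : Gr N I := fun y => ⨆ G : c, G.1 y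
    have hmem : ∀ y p, p ∈ T y ↔ ∃ G ∈ c, p ∈ G y := fun y p => by
      haveI : Nonempty c := ⟨⟨G₁, hG₁⟩⟩
      rw [Submodule.mem_iSup_of_directed _ (fun a b => ?_)]
      · exact ⟨fun ⟨⟨G, hG⟩, h⟩ => ⟨G, hG, h⟩, fun ⟨G, hG, h⟩ => ⟨⟨G, hG⟩, h⟩⟩
      · rcases hchain.total a.2 b.2 with h | h
        · exact ⟨b, h y, le_rfl⟩
        · exact ⟨a, le_rfl, h y⟩
    refine ⟨T, ⟨⟨fun y p hp => ?_, fun y b hb => ?_⟩, ?_⟩, fun G hG y p hp => (hmem y p).2 ⟨G, hG, hp⟩⟩
    · obtain ⟨G, hGc, hp⟩ := (hmem y p).1 hp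
      obtain ⟨W, hy, n, s, he, hall⟩ := (hc hGc).1.isOpen y p hp
      exact ⟨W, hy, n, s, he, fun z hz => (hmem z _).2 ⟨G, hGc, hall z hz⟩⟩
    · obtain ⟨G, hGc, hp⟩ := (hmem y _).1 hb
      exact (hc hGc).1.unique y b hp
    · exact fun y p hp => (hmem y p).2 ⟨G₁, hG₁, (hc hG₁).2 y hp⟩) (graph f φ) ⟨isGr_graph f φ, le_rfl⟩
  have htot : ∀ y a, ∃ b, (a, b) ∈ G y := fun y a => by_contra fun h => by
    obtain ⟨G', hG', h1, h2⟩ := exists_enlarge hI hinj hG y a (not_exists.1 h)
    exact h2 (hmax ⟨hG', hG0.trans h1⟩ h1)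
  choose val hval using htot
  have hv : ∀ (W : X.Opens) (n : Γ(N, W)), ∃ s : Γ(I, W), ∀ z (hz : z ∈ W),
      gp N I z hz n s ∈ G z := fun W n => by
    obtain ⟨s, hs⟩ := exists_section (I := I) W (fun z hz => val z (N.presheaf.germ W z hz n)) fun z hz => by
      obtain ⟨W', hz', n', s, he, hall⟩ := hG.isOpen z _ (hval z (N.presheaf.germ W z hz n))
      obtain ⟨O, hzO, h1, h2, heq⟩ := exists_germ_pair (M' := I) hz' hz n' n (congrArg Prod.fst he)
      refine ⟨O, hzO, I.presheaf.map (homOfLE h1).op s, fun y hyO hy => ?_⟩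
      rw [TopCat.Presheaf.germ_res_apply]
      refine hG.eq_of_mem (hall y (h1 hyO)) ?_
      rw [heq y hyO]
      exact hval y _
    exact ⟨s, fun z hz => by
      show (_, I.presheaf.germ W z hz s) ∈ G z
      rw [hs z hz]
      exact hval z _⟩
  choose app happ using hv
  have huniq : ∀ (W : X.Opens) (n : Γ(N, W)) (s : Γ(I, W)), (∀ z (hz : z ∈ W), gp N I z hz n s ∈ G z) → app W n = s :=
    fun W n s h => TopCat.Presheaf.section_ext ⟨I.presheaf, I.isSheaf⟩ W _ _ fun z hz =>
      hG.eq_of_mem (happ W n z hz) (h z hz)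
  let appHom : ∀ W : X.Opens, Γ(N, W) →ₗ[Γ(X, W)] Γ(I, W) := fun W =>
    { toFun := app W
      map_add' := fun a b => huniq W _ _ fun z hz => by
        simp only [gp, map_add]
        exact add_mem (happ W a z hz) (happ W b z hz)
      map_smul' := fun r a => huniq W _ _ fun z hz => by
        simp only [gp, RingHom.id_apply, QCoh.germ_smul']
        exact Submodule.smul_mem _ (X.presheaf.germ W z hz r) (happ W a z hz) }
  refine ⟨⟨PresheafOfModules.homMk
    { app := fun W => AddCommGrpCat.ofHom (appHom W.unop).toAddMonoidHom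
      naturality := fun W W' i => AddCommGrpCat.hom_ext (AddMonoidHom.ext fun n => huniq W'.unop
        (N.presheaf.map i n) (I.presheaf.map i (app W.unop n)) fun z hz => by
        have h := happ W.unop n z (i.unop.le hz)
        simp only [gp] at h ⊢
        rwa [← Quiver.Hom.op_unop i, TopCat.Presheaf.germ_res_apply, TopCat.Presheaf.germ_res_apply]) }
    (fun W r m => (appHom W.unop).map_smul r m)⟩, ?_⟩
  refine Scheme.Modules.hom_ext _ _ fun W => ?_
  refine AddCommGrpCat.hom_ext (AddMonoidHom.ext fun m => ?_)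
  show app W (f.app W m) = φ.app W m
  exact huniq W _ _ fun z hz => hG0 z ⟨W, hz, m, rfl⟩

end Groth.Agent.VBPnX.InjSlim
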